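import Groth.Prelude.Def_Omega3
import Groth.Agent.H54.ThickLocal

/-!
# First order thickenings are stable under base change
-/

universe u

open AlgebraicGeometry CategoryTheory Limits

namespace Groth.Agent.Lib.UnivThickAff.BaseChange

/-- A base change of a first order thickening is a first order thickening. -/
theorem isFirstOrderThickening {X X' Y Y' : Scheme.{u}} {iX : X ⟶ X'} {f : X ⟶ Y} {f' : X' ⟶ Y'}
    {iY : Y ⟶ Y'} (hc : IsPullback iX f f' iY) (h : MoreMor.IsFirstOrderThickening iY) :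
    MoreMor.IsFirstOrderThickening iX := by
  haveI : IsClosedImmersion iY := h.1.1
  haveI : Surjective iY := h.1.2
  haveI : IsClosedImmersion iX := MorphismProperty.of_isPullback hc.flip h.1.1
  have hs : Surjective iX := MorphismProperty.of_isPullback hc.flip h.1.2
  refine ⟨⟨inferInstance, hs⟩, le_bot_iff.1 ?_⟩
  let ι := {p : X'.affineOpens × Y'.affineOpens // p.1.1 ≤ f' ⁻¹ᵁ p.2.1}
  refine Scheme.IdealSheafData.le_of_iSup_eq_top (fun p : ι => p.1.1) ?_ fun p => ?_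
  · refine eq_top_iff.2 fun x _ => ?_
    obtain ⟨_, ⟨V, hV, rfl⟩, hxV, -⟩ := Y'.isBasis_affineOpens.exists_subset_of_mem_open
      (Set.mem_univ (f' x)) isOpen_univ
    obtain ⟨_, ⟨U, hU, rfl⟩, hxU, hUV⟩ :=
      X'.isBasis_affineOpens.exists_subset_of_mem_open hxV (f' ⁻¹ᵁ V).isOpen
    exact TopologicalSpace.Opens.mem_iSup.2 ⟨⟨(⟨U, hU⟩, ⟨V, hV⟩), hUV⟩, hxU⟩
  · obtain ⟨⟨U, V⟩, hUV⟩ := p
    obtain ⟨-, hk⟩ := H54.ThickLocal.ker_app_eq_map hc V.2 U.2 hUV
    have h2 := congrArg (fun J => J.ideal V) h.2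
    simp only [Scheme.IdealSheafData.ideal_mul, Pi.mul_apply, Scheme.Hom.ker_apply,
      Scheme.IdealSheafData.ideal_bot, Pi.bot_apply] at h2 ⊢
    rw [hk, ← Ideal.map_mul, h2, Ideal.map_bot]

end Groth.Agent.Lib.UnivThickAff.BaseChange
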