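import Groth.Prelude.Def_Omega3
import Groth.Prelude.Def_MoreMor
import Mathlib.RingTheory.Kaehler.Basic
import Mathlib.RingTheory.Unramified.Basic
import Mathlib.RingTheory.TensorProduct.Quotient
import Mathlib.RingTheory.Spectrum.Prime.Homeomorph
import Mathlib.Algebra.TrivSqZeroExt.Basic

/-!
# Testing universal first order thickenings on affine opens
-/

universe u

open AlgebraicGeometry CategoryTheory Limits
open scoped TensorProduct

namespace Groth.Agent.Lib.UnivThickAff

/-- A surjection with square-zero kernel of affine schemes is a first order thickening. -/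
theorem isFirstOrderThickening_specMap {C B : CommRingCat.{u}} (q : C ⟶ B)
    (hq : Function.Surjective q.hom) (hk : ∀ x y, q.hom x = 0 → q.hom y = 0 → x * y = 0) :
    MoreMor.IsFirstOrderThickening (Spec.map q) := by
  haveI : IsClosedImmersion (Spec.map q) := IsClosedImmersion.spec_of_surjective q hq
  refine ⟨⟨inferInstance, ⟨?_⟩⟩, ?_⟩
  · have hnil : RingHom.ker q.hom ≤ nilradical C := fun x hx =>
      mem_nilradical.2 ⟨2, by rw [pow_two]; exact hk x x hx hx⟩
    exact (PrimeSpectrum.isHomeomorph_comap q.hom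
      (fun x => ⟨1, one_pos, by rw [pow_one]; exact hq x⟩) hnil).surjective
  · refine Scheme.IdealSheafData.ext_of_isAffine ?_
    rw [Scheme.IdealSheafData.ideal_mul, Pi.mul_apply, Scheme.IdealSheafData.ideal_bot,
      Pi.bot_apply, eq_bot_iff, Ideal.mul_le]
    intro x hx y hy
    rw [Scheme.Hom.ker_apply, RingHom.mem_ker] at hx hy
    have hkey : ∀ z, q.hom ((Scheme.ΓSpecIso C).hom z) =
        (Scheme.ΓSpecIso B).hom ((Spec.map q).appTop z) := fun z =>
      (congr($(Scheme.ΓSpecIso_naturality q) z)).symm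
    rw [Ideal.mem_bot]
    apply (ConcreteCategory.bijective_of_isIso (Scheme.ΓSpecIso C).hom).1
    rw [map_zero, map_mul]
    refine hk _ _ ?_ ?_
    · rw [hkey]
      exact (congrArg (Scheme.ΓSpecIso B).hom hx).trans (map_zero _)
    · rw [hkey]
      exact (congrArg (Scheme.ΓSpecIso B).hom hy).trans (map_zero _)

/-- Ring maps out of an affine chart of a universal thickening are determined by their reduction
and their restriction to the base. -/
theorem chart_hom_unique {Z Z' X : Scheme.{u}} {h : Z ⟶ X} {i : Z ⟶ Z'} {h' : Z' ⟶ X}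
    (hu : OmegaSh.IsUnivThickening h i h') {U : X.Opens} (hU : IsAffineOpen U) {V : Z'.Opens}
    (hV : IsAffineOpen V) (e : V ≤ h' ⁻¹ᵁ U) {W : Z.Opens} (hW : IsAffineOpen W)
    (e' : W ≤ i ⁻¹ᵁ V) {C : CommRingCat.{u}} (q : C ⟶ Γ(Z, W))
    (hq : Function.Surjective q.hom) (hk : ∀ x y, q.hom x = 0 → q.hom y = 0 → x * y = 0)
    (φ ψ : Γ(Z', V) ⟶ C) (hφ : φ ≫ q = i.appLE V W e') (hψ : ψ ≫ q = i.appLE V W e')
    (hφψ : h'.appLE U V e ≫ φ = h'.appLE U V e ≫ ψ) : φ = ψ := by
  have hj := isFirstOrderThickening_specMap q hq hk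
  let l : (Γ(Z', V) ⟶ C) → (Spec C ⟶ Z') := fun χ => Spec.map χ ≫ hV.fromSpec
  have hl₁ : ∀ χ, χ ≫ q = i.appLE V W e' → Spec.map q ≫ l χ = hW.fromSpec ≫ i := fun χ hχ => by
    simp only [l]
    rw [← Category.assoc, ← Spec.map_comp, hχ]
    exact IsAffineOpen.SpecMap_appLE_fromSpec i hV hW e'
  have hl₂ : ∀ χ, l χ ≫ h' = Spec.map (h'.appLE U V e ≫ χ) ≫ hU.fromSpec := fun χ => by
    simp only [l]
    rw [Spec.map_comp, Category.assoc, Category.assoc,
      IsAffineOpen.SpecMap_appLE_fromSpec h' hU hV e]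
  obtain ⟨a', -, ha'⟩ := hu.2.2 _ _ (Spec.map q) (l φ ≫ h') hW.fromSpec hj (by
    rw [← Category.assoc, hl₁ φ hφ, Category.assoc, hu.2.1])
  have h1 := ha' (l φ) ⟨hl₁ φ hφ, rfl⟩
  have h2 := ha' (l ψ) ⟨hl₁ ψ hψ, by rw [hl₂, hl₂, hφψ]⟩
  exact Spec.map_injective ((cancel_mono hV.fromSpec).1 (h1.trans h2.symm))

/-- An algebra map that kills the differentials modulo a square-zero ideal is formally
unramified. -/
theorem formallyUnramified_of_tmul {A B B' : Type u} [CommRing A] [CommRing B'] [CommRing B]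
    [Algebra A B'] [Algebra B' B] (hs : Function.Surjective (algebraMap B' B))
    (h2 : RingHom.ker (algebraMap B' B) * RingHom.ker (algebraMap B' B) = ⊥)
    (hd : ∀ x, (1 : B) ⊗ₜ[B'] KaehlerDifferential.D A B' x = 0) :
    Algebra.FormallyUnramified A B' := by
  obtain ⟨J, hJ⟩ : ∃ J, J = RingHom.ker (algebraMap B' B) := ⟨_, rfl⟩
  have hq : ∀ ω : Ω[B'⁄A], (1 : B) ⊗ₜ[B'] ω = 0 := by
    intro ω
    have hsp : ω ∈ Submodule.span B' (Set.range (KaehlerDifferential.D A B')) := by
      rw [KaehlerDifferential.span_range_derivation]; exact Submodule.mem_top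
    induction hsp using Submodule.span_induction with
    | mem v hv => obtain ⟨x, rfl⟩ := hv; exact hd x
    | zero => simp
    | add v w _ _ hv hw => simp [TensorProduct.tmul_add, hv, hw]
    | smul r v _ hv => rw [TensorProduct.tmul_smul, hv, smul_zero]
  have hJtop : (J • ⊤ : Submodule B' Ω[B'⁄A]) = ⊤ := by
    refine eq_top_iff.2 fun ω _ => ?_
    have h1 : (1 : B' ⧸ J) ⊗ₜ[B'] ω = 0 := by
      subst hJ
      let e : B ≃ₐ[B'] B' ⧸ RingHom.ker (algebraMap B' B) :=
        (Ideal.quotientKerAlgEquivOfSurjective (f := Algebra.ofId B' B) hs).symm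
      have he1 : e 1 = 1 := map_one e
      have := congrArg (LinearMap.rTensor Ω[B'⁄A] e.toLinearMap) (hq ω)
      simpa [he1] using this
    have hz := congrArg (TensorProduct.quotTensorEquivQuotSMul Ω[B'⁄A] J) h1
    rw [map_zero, ← map_one (Ideal.Quotient.mk J),
      TensorProduct.quotTensorEquivQuotSMul_mk_tmul, one_smul] at hz
    exact (Submodule.Quotient.mk_eq_zero _).1 hz
  have hJ2 : J * J = ⊥ := by
    rw [hJ]
    exact h2
  refine ⟨subsingleton_of_forall_eq 0 fun ω => ?_⟩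
  have h3 : (⊤ : Submodule B' Ω[B'⁄A]) = ⊥ := by
    calc (⊤ : Submodule B' Ω[B'⁄A]) = J • (J • ⊤) := by rw [hJtop, hJtop]
      _ = ⊥ := by rw [← Submodule.smul_assoc, smul_eq_mul, hJ2, Submodule.bot_smul]
  exact (Submodule.eq_bot_iff _).1 h3 ω Submodule.mem_top

/-- Uniqueness of lifts to trivial square-zero extensions kills the reduced differentials. -/
theorem tmul_D_eq_zero {A B B' : Type u} [CommRing A] [CommRing B'] [CommRing B]
    [Algebra A B'] [Algebra B' B]
    (H : ∀ (C : Type u) [CommRing C] (q : C →+* B), Function.Surjective q →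
      (∀ x y, q x = 0 → q y = 0 → x * y = 0) → ∀ φ ψ : B' →+* C,
      q.comp φ = algebraMap B' B → q.comp ψ = algebraMap B' B →
      φ.comp (algebraMap A B') = ψ.comp (algebraMap A B') → φ = ψ) (x : B') :
    (1 : B) ⊗ₜ[B'] KaehlerDifferential.D A B' x = 0 := by
  let d : B' →+ B ⊗[B'] Ω[B'⁄A] :=
    ⟨⟨fun y => 1 ⊗ₜ KaehlerDifferential.D A B' y, by simp⟩,
      fun y z => by simp [TensorProduct.tmul_add]⟩
  have hd : ∀ y z, d (y * z) = algebraMap B' B y • d z + algebraMap B' B z • d y := fun y z => by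
    change (1 : B) ⊗ₜ[B'] KaehlerDifferential.D A B' (y * z) =
      algebraMap B' B y • (_ ⊗ₜ _) + algebraMap B' B z • (_ ⊗ₜ _)
    rw [Derivation.leibniz, TensorProduct.tmul_add, TensorProduct.tmul_smul,
      TensorProduct.tmul_smul, algebraMap_smul, algebraMap_smul]
  have hd1 : d 1 = 0 := by simp [d]
  let ψ : B' →+* TrivSqZeroExt B (B ⊗[B'] Ω[B'⁄A]) :=
    { toFun := fun y => TrivSqZeroExt.inl (algebraMap B' B y) + TrivSqZeroExt.inr (d y)
      map_one' := by ext <;> simp [hd1]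
      map_mul' := fun y z => by ext <;> simp [hd]
      map_zero' := by ext <;> simp
      map_add' := fun y z => by ext <;> simp }
  have h := H _ (TrivSqZeroExt.fstHom B B (B ⊗[B'] Ω[B'⁄A])).toRingHom
    (fun b => ⟨TrivSqZeroExt.inl b, rfl⟩)
    (fun y z hy hz => by
      have hy' : y.fst = 0 := hy
      have hz' : z.fst = 0 := hz
      ext <;> simp [hy', hz'])
    ((TrivSqZeroExt.inlHom B (B ⊗[B'] Ω[B'⁄A])).comp (algebraMap B' B)) ψ (by ext y; rfl)
    (by ext y; simp [ψ]) (by ext a <;> simp [ψ, d])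
  have h1 := congrArg TrivSqZeroExt.snd (RingHom.congr_fun h x)
  simpa [ψ, d] using h1.symm

/-- A universal first order thickening is formally unramified over the base. -/
theorem formallyUnramified {Z Z' X : Scheme.{u}} {h : Z ⟶ X} {i : Z ⟶ Z'} {h' : Z' ⟶ X}
    (hu : OmegaSh.IsUnivThickening h i h') : FormallyUnramified h' := by
  haveI : IsClosedImmersion i := hu.1.1.1
  refine ⟨fun {U} hU {V} hV e => ?_⟩
  have hW : IsAffineOpen (i ⁻¹ᵁ V) := hV.preimage i
  letI : Algebra Γ(X, U) Γ(Z', V) := (h'.appLE U V e).hom.toAlgebra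
  letI : Algebra Γ(Z', V) Γ(Z, i ⁻¹ᵁ V) := (i.app V).hom.toAlgebra
  refine formallyUnramified_of_tmul (B := Γ(Z, i ⁻¹ᵁ V)) (i.app_surjective V hV) ?_
    (tmul_D_eq_zero fun C _ q hq hk φ ψ hφ hψ hφψ => ?_)
  · have h1 := congrArg (fun J => J.ideal ⟨V, hV⟩) hu.1.2
    simp only [Scheme.IdealSheafData.ideal_mul, Pi.mul_apply, Scheme.Hom.ker_apply,
      Scheme.IdealSheafData.ideal_bot, Pi.bot_apply] at h1
    exact h1
  · have := chart_hom_unique hu hU hV e hW le_rfl (C := CommRingCat.of C) (CommRingCat.ofHom q) hq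
      hk (CommRingCat.ofHom φ) (CommRingCat.ofHom ψ)
      (CommRingCat.hom_ext (hφ.trans (congrArg CommRingCat.Hom.hom (Scheme.Hom.app_eq_appLE (f := i) (U := V)))))
      (CommRingCat.hom_ext (hψ.trans (congrArg CommRingCat.Hom.hom (Scheme.Hom.app_eq_appLE (f := i) (U := V)))))
      (CommRingCat.hom_ext hφψ)
    exact congrArg CommRingCat.Hom.hom this

end Groth.Agent.Lib.UnivThickAff
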