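import Groth.Agent.Lib.UnivThickAff.Retract
import Groth.Agent.Lib.Conormal92.OmegaSect
import Groth.Agent.Lib.QCohChart.Basic
import Groth.Agent.Lib.Kaehler.Finite
import Mathlib.Algebra.TrivSqZeroExt.Basic

/-!
# Differentials of a universal thickening restricted to the closed subscheme
-/

set_option autoImplicit false
set_option maxHeartbeats 800000

universe u

open CategoryTheory CategoryTheory.Limits AlgebraicGeometry TopologicalSpace Opposite OmegaSh
open Groth.Agent.Lib
open scoped TensorProduct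

namespace Groth.Agent.Lib.UnivThickAff.DiffIso

/-- A spanning set stays spanning after base change. -/
theorem span_image_eq_top {A C M N : Type u} [CommRing A] [CommRing C] [Algebra A C]
    [AddCommGroup M] [Module A M] [AddCommGroup N] [Module A N] [Module C N] [IsScalarTower A C N]
    {f : M →ₗ[A] N} (hb : IsBaseChange C f) {s : Set M} (hs : Submodule.span A s = ⊤) :
    Submodule.span C (f '' s) = ⊤ := by
  refine Submodule.eq_top_iff'.2 fun y => ?_
  induction y using hb.inductionOn with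
  | zero => exact zero_mem _
  | tmul m =>
    have hm : f m ∈ (Submodule.span A s).map f := Submodule.mem_map_of_mem (hs ▸ Submodule.mem_top)
    rw [Submodule.map_span] at hm
    exact Submodule.span_le_restrictScalars A C _ hm
  | smul c n hn => exact Submodule.smul_mem _ c hn
  | add x y hx hy => exact add_mem hx hy

/-- Differentials generate. -/
theorem span_omega {X S : Scheme.{u}} {q : X ⟶ S} {Ω : X.Modules} {d : Der q Ω} (hd : IsUniversal d)
    {S₀ : S.Opens} (hS₀ : IsAffineOpen S₀) {X₀ : X.Opens} (hX₀ : IsAffineOpen X₀)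
    (e : X₀ ≤ q ⁻¹ᵁ S₀) :
    Submodule.span Γ(X, X₀) (Set.range (d.app X₀)) = ⊤ := by
  obtain ⟨E, hE⟩ := Conormal92.OmegaSect.exists_equiv q hX₀ hS₀ e hd
  letI : Algebra Γ(S, S₀) Γ(X, X₀) := (q.appLE S₀ X₀ e).hom.toAlgebra
  refine Submodule.eq_top_iff'.2 fun y => ?_
  let E' : Γ(Ω, X₀) ≃ₗ[Γ(X, X₀)] Ω[Γ(X, X₀)⁄Γ(S, S₀)] :=
    { toFun := fun y => E y, invFun := fun y => E.symm y
      map_add' := map_add E, map_smul' := map_smul E
      left_inv := E.symm_apply_apply, right_inv := E.apply_symm_apply }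
  have h1 : E' y ∈
      Submodule.span Γ(X, X₀) (Set.range (KaehlerDifferential.D Γ(S, S₀) Γ(X, X₀))) := by
    rw [KaehlerDifferential.span_range_derivation]; exact Submodule.mem_top
  have h2 := Submodule.mem_map_of_mem (f := E'.symm.toLinearMap) h1
  rw [Submodule.map_span, LinearEquiv.coe_coe, E'.symm_apply_apply] at h2
  refine Submodule.span_mono ?_ h2
  rintro _ ⟨_, ⟨b, rfl⟩, rfl⟩
  exact ⟨b, (LinearEquiv.eq_symm_apply E').2 (hE b)⟩

variable {Z X S Z' : Scheme.{u}} {h : Z ⟶ X} {q : X ⟶ S} {i : Z ⟶ Z'} {h' : Z' ⟶ X}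
  {ΩX : X.Modules} {dX : Der q ΩX} {ΩZ' : Z'.Modules} {dZ' : Der (h' ≫ q) ΩZ'}
  {c : (Scheme.Modules.pullback h').obj ΩX ⟶ ΩZ'}

theorem app_mu (hc : IsDiffCompat h' dX dZ' c) {X₀ : X.Opens} {V : Z'.Opens} (e : V ≤ h' ⁻¹ᵁ X₀)
    (s : Γ(X, X₀)) :
    c.app V (CechRes.PullSec.mu h' ΩX e (dX.app X₀ s)) = dZ'.app V (h'.appLE X₀ V e s) := by
  change c.app V (((Scheme.Modules.pullback h').obj ΩX).presheaf.map (homOfLE e).op
    (pullSect h' ΩX X₀ (dX.app X₀ s))) = _
  refine (ConcreteCategory.congr_hom (c.mapPresheaf.naturality (homOfLE e).op) _).trans ?_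
  change ΩZ'.presheaf.map (homOfLE e).op (c.app (h' ⁻¹ᵁ X₀) _) = _
  rw [hc, ← Kaehler.Basic.der_app_map dZ' e]
  rfl

/-- On charts, the pulled back comparison map is bijective. -/
theorem bijective_chart (hu : IsUnivThickening h i h') (hdX : IsUniversal dX)
    (hdZ' : IsUniversal dZ') (hc : IsDiffCompat h' dX dZ' c) {S₀ : S.Opens}
    (hS₀ : IsAffineOpen S₀) {X₀ : X.Opens} (hX₀ : IsAffineOpen X₀) (eX : X₀ ≤ q ⁻¹ᵁ S₀)
    {V : Z'.Opens} (hV : IsAffineOpen V) (eV : V ≤ h' ⁻¹ᵁ X₀) :
    Function.Bijective (((Scheme.Modules.pullback i).map c).app (i ⁻¹ᵁ V)) := by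
  haveI : IsClosedImmersion i := hu.1.1.1
  haveI : ΩX.IsQuasicoherent := Kaehler.Finite.isQuasicoherent hdX
  haveI : ΩZ'.IsQuasicoherent := Kaehler.Finite.isQuasicoherent hdZ'
  haveI : ((Scheme.Modules.pullback h').obj ΩX).IsQuasicoherent :=
    QCoh.Pullback.isQCoh_pullback h' _
  let W := i ⁻¹ᵁ V
  have hW : IsAffineOpen W := hV.preimage i
  let N := (Scheme.Modules.pullback h').obj ΩX
  let P2 := Γ((Scheme.Modules.pullback i).obj N, W)
  let Q2 := Γ((Scheme.Modules.pullback i).obj ΩZ', W)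
  let F : P2 → Q2 := ((Scheme.Modules.pullback i).map c).app W
  have eS : V ≤ (h' ≫ q) ⁻¹ᵁ S₀ := eV.trans (h'.preimage_mono eX)
  -- the rings
  let qc := i.appLE V W le_rfl
  let ah := h'.appLE X₀ V eV
  letI : Algebra Γ(X, X₀) Γ(Z', V) := ah.hom.toAlgebra
  letI : Algebra Γ(Z', V) Γ(Z, W) := qc.hom.toAlgebra
  letI : Algebra Γ(X, X₀) Γ(Z, W) := (qc.hom.comp ah.hom).toAlgebra
  letI : Algebra Γ(S, S₀) Γ(X, X₀) := (q.appLE S₀ X₀ eX).hom.toAlgebra
  letI : Algebra Γ(S, S₀) Γ(Z', V) := ((h' ≫ q).appLE S₀ V eS).hom.toAlgebra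
  haveI : IsScalarTower Γ(S, S₀) Γ(X, X₀) Γ(Z', V) := IsScalarTower.of_algebraMap_eq fun a =>
    (congrArg (fun (p : Γ(S, S₀) ⟶ Γ(Z', V)) => p a)
      (Scheme.Hom.appLE_comp_appLE h' q S₀ X₀ V eX eV)).symm
  -- the pulled back modules
  letI : Module Γ(Z', V) P2 := Module.compHom _ qc.hom
  haveI : IsScalarTower Γ(Z', V) Γ(Z, W) P2 := IsScalarTower.of_algebraMap_smul fun _ _ => rfl
  letI : Module Γ(Z', V) Q2 := Module.compHom _ qc.hom
  haveI : IsScalarTower Γ(Z', V) Γ(Z, W) Q2 := IsScalarTower.of_algebraMap_smul fun _ _ => rfl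
  letI : Module Γ(X, X₀) Γ(N, V) := Module.compHom _ ah.hom
  haveI : IsScalarTower Γ(X, X₀) Γ(Z', V) Γ(N, V) := IsScalarTower.of_algebraMap_smul fun _ _ => rfl
  have hb₁ := CechRes.PullSec.isBaseChange_mu h' ΩX hX₀ hV eV
  have hb₂ := CechRes.PullSec.isBaseChange_mu i N hV hW (le_refl W)
  have hbZ := CechRes.PullSec.isBaseChange_mu i ΩZ' hV hW (le_refl W)
  let D : Γ(X, X₀) → P2 := fun r =>
    CechRes.PullSec.mu i N le_rfl (CechRes.PullSec.mu h' ΩX eV (dX.app X₀ r))
  have hFD : ∀ r, F (D r) = CechRes.PullSec.mu i ΩZ' le_rfl (dZ'.app V (ah r)) := fun r => by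
    show ((Scheme.Modules.pullback i).map c).app W _ = _
    rw [← CechRes.PullSec.mu_natural, app_mu hc]
  have hspan : Submodule.span Γ(Z, W) (Set.range D) = ⊤ := by
    have h1 := span_image_eq_top hb₁ (span_omega hdX hS₀ hX₀ eX)
    have h2 := span_image_eq_top hb₂ h1
    rw [← Set.range_comp, ← Set.range_comp] at h2
    exact h2
  let Fl : P2 →ₗ[Γ(Z, W)] Q2 :=
    { toFun := F
      map_add' := map_add (((Scheme.Modules.pullback i).map c).app W).hom
      map_smul' := fun a x => Scheme.Modules.Hom.app_smul _ a x }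
  obtain ⟨E, hE⟩ := Conormal92.OmegaSect.exists_equiv (h' ≫ q) hV hS₀ eS hdZ'
  let E' : Γ(ΩZ', V) ≃ₗ[Γ(Z', V)] Ω[Γ(Z', V)⁄Γ(S, S₀)] :=
    { toFun := fun y => E y, invFun := fun y => E.symm y
      map_add' := map_add E, map_smul' := map_smul E
      left_inv := E.symm_apply_apply, right_inv := E.apply_symm_apply }
  have hE' : ∀ b, E' (dZ'.app V b) = KaehlerDifferential.D Γ(S, S₀) Γ(Z', V) b := hE
  constructor
  · -- a left inverse
    letI : Module Γ(Z, W)ᵐᵒᵖ P2 :=
      Module.compHom _ ((RingHom.id Γ(Z, W)).fromOpposite fun a b => mul_comm a b)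
    haveI : IsCentralScalar Γ(Z, W) P2 := ⟨fun _ _ => rfl⟩
    have hqc : Function.Surjective qc.hom := by
      show Function.Surjective (i.appLE V W le_rfl).hom
      rw [← Scheme.Hom.app_eq_appLE]
      exact i.app_surjective V hV
    have hDadd : ∀ r r', D (r + r') = D r + D r' := fun r r' => by simp only [D, map_add]
    have hDmul : ∀ r r', D (r * r') = qc (ah r) • D r' + qc (ah r') • D r := fun r r' => by
      simp only [D, Kaehler.Basic.der_app_mul, map_add, map_smulₛₗ]
      rfl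
    have hDone : D 1 = 0 := by
      simp only [D, Kaehler.Basic.der_app_one, map_zero]
    let Tw := TrivSqZeroExt Γ(Z, W) P2
    let χ : Γ(X, X₀) →+* Tw :=
      { toFun := fun r => (qc (ah r), D r)
        map_one' := TrivSqZeroExt.ext (by simp) (by simpa using hDone)
        map_mul' := fun r r' => TrivSqZeroExt.ext (by simp; rfl) (by
          rw [TrivSqZeroExt.snd_mul]
          simp only [TrivSqZeroExt.fst, TrivSqZeroExt.snd, hDmul, op_smul_eq_smul])
        map_zero' := TrivSqZeroExt.ext (by simp) (by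
          simp only [TrivSqZeroExt.snd, D, map_zero]
          rfl)
        map_add' := fun r r' => TrivSqZeroExt.ext (by simp; rfl) (hDadd r r') }
    let qT : CommRingCat.of Tw ⟶ Γ(Z, W) :=
      CommRingCat.ofHom (TrivSqZeroExt.fstHom Γ(Z, W) Γ(Z, W) P2).toRingHom
    have hqT : Function.Surjective qT.hom := fun x =>
      ⟨(TrivSqZeroExt.inl x : Tw), rfl⟩
    have hkT : ∀ x y : Tw, qT.hom x = 0 → qT.hom y = 0 → x * y = 0 := fun x y hx hy => by
      have hx' : TrivSqZeroExt.fst x = 0 := hx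
      have hy' : TrivSqZeroExt.fst y = 0 := hy
      exact TrivSqZeroExt.ext (by rw [TrivSqZeroExt.fst_mul, hx', zero_mul]; rfl)
        (by rw [TrivSqZeroExt.snd_mul, hx', hy', zero_smul, op_smul_eq_smul, zero_smul, add_zero]; rfl)
    obtain ⟨φ, hφ₁, hφ₂⟩ := Retract.exists_chart_hom hu hX₀ hV eV hW le_rfl qT hqT hkT
      (CommRingCat.ofHom χ) rfl
    have hfst : ∀ b, TrivSqZeroExt.fst (φ b) = qc b := fun b => congr($hφ₁ b)
    have hφr : ∀ r, φ (ah r) = χ r := fun r => congr($hφ₂ r)
    letI : Module Γ(S, S₀) P2 :=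
      Module.compHom _ (qc.hom.comp (algebraMap Γ(S, S₀) Γ(Z', V)))
    haveI : IsScalarTower Γ(S, S₀) Γ(Z', V) P2 := IsScalarTower.of_algebraMap_smul fun _ _ => rfl
    let DV : Derivation Γ(S, S₀) Γ(Z', V) P2 := Derivation.mk'
      { toFun := fun b => TrivSqZeroExt.snd (φ b)
        map_add' := fun a b => by rw [map_add, TrivSqZeroExt.snd_add]
        map_smul' := fun r b => by
          have h0 : TrivSqZeroExt.snd (φ (algebraMap Γ(S, S₀) Γ(Z', V) r)) = 0 := by
            rw [IsScalarTower.algebraMap_apply Γ(S, S₀) Γ(X, X₀) Γ(Z', V)]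
            erw [hφr]
            show D _ = 0
            simp only [D]
            rw [show algebraMap Γ(S, S₀) Γ(X, X₀) r = q.appLE S₀ X₀ eX r from rfl,
              Kaehler.Basic.der_app_appLE, map_zero, map_zero]
          rw [RingHom.id_apply, Algebra.smul_def, map_mul, TrivSqZeroExt.snd_mul, h0, smul_zero,
            add_zero, hfst]
          rfl }
      fun a b => by
        show TrivSqZeroExt.snd (φ (a * b)) = a • TrivSqZeroExt.snd (φ b) + b • TrivSqZeroExt.snd (φ a)
        rw [map_mul, TrivSqZeroExt.snd_mul, hfst, hfst, op_smul_eq_smul]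
        rfl
    let G : Q2 →ₗ[Γ(Z, W)] P2 := hbZ.lift (DV.liftKaehlerDifferential ∘ₗ E'.toLinearMap)
    have hG : ∀ x, G (Fl x) = x := LinearMap.congr_fun
      (show G ∘ₗ Fl = LinearMap.id from LinearMap.ext_on_range hspan fun r => by
        show G (F (D r)) = D r
        rw [hFD]
        refine (hbZ.lift_eq _ _).trans ?_
        rw [LinearMap.comp_apply, LinearEquiv.coe_coe, hE', Derivation.liftKaehlerDifferential_comp_D]
        show TrivSqZeroExt.snd (φ (ah r)) = D r
        rw [hφr]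
        rfl)
    exact Function.LeftInverse.injective (g := G) hG
  · haveI : Algebra.FormallyUnramified Γ(X, X₀) Γ(Z', V) :=
      (UnivThickAff.formallyUnramified hu).formallyUnramified_appLE hX₀ hV eV
    have hu0 : Submodule.span Γ(Z', V)
        (Set.range fun r => dZ'.app V (ah r)) = ⊤ := by
      refine Submodule.eq_top_iff'.2 fun y => ?_
      obtain ⟨ω, rfl⟩ := E'.symm.surjective y
      have h1 : ω ∈ LinearMap.range (KaehlerDifferential.mapBaseChange Γ(S, S₀) Γ(X, X₀) Γ(Z', V)) := by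
        rw [KaehlerDifferential.range_mapBaseChange, LinearMap.mem_ker]
        exact Subsingleton.elim _ _
      obtain ⟨t, rfl⟩ := h1
      induction t using TensorProduct.induction_on with
      | zero => simp
      | add x y hx hy => rw [map_add, map_add]; exact add_mem hx hy
      | tmul b ω =>
        have hsp : ω ∈ Submodule.span Γ(X, X₀)
            (Set.range (KaehlerDifferential.D Γ(S, S₀) Γ(X, X₀))) := by
          rw [KaehlerDifferential.span_range_derivation]; exact Submodule.mem_top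
        induction hsp using Submodule.span_induction generalizing b with
        | mem v hv =>
          obtain ⟨r, rfl⟩ := hv
          rw [KaehlerDifferential.mapBaseChange_tmul, KaehlerDifferential.map_D, map_smul]
          refine Submodule.smul_mem _ b (Submodule.subset_span ⟨r, ?_⟩)
          exact (LinearEquiv.eq_symm_apply E').2 (hE' _)
        | zero => simp
        | add v w _ _ hv hw =>
          rw [TensorProduct.tmul_add, map_add, map_add]; exact add_mem (hv b) (hw b)
        | smul r v _ hv => rw [← TensorProduct.smul_tmul]; exact hv _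
    intro y
    have hy : y ∈ LinearMap.range Fl := by
      have h2 := span_image_eq_top hbZ hu0
      rw [← Set.range_comp] at h2
      have h3 : y ∈ Submodule.span Γ(Z, W) (Set.range fun r =>
          CechRes.PullSec.mu i ΩZ' le_rfl (dZ'.app V (ah r))) := h2 ▸ Submodule.mem_top
      refine Submodule.span_le.2 ?_ h3
      rintro _ ⟨r, rfl⟩
      exact ⟨D r, hFD r⟩
    exact hy

theorem isIso (hu : IsUnivThickening h i h') (hdX : IsUniversal dX) (hdZ' : IsUniversal dZ')
    (hc : IsDiffCompat h' dX dZ' c) : IsIso ((Scheme.Modules.pullback i).map c) := by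
  haveI : IsClosedImmersion i := hu.1.1.1
  haveI : ΩX.IsQuasicoherent := Kaehler.Finite.isQuasicoherent hdX
  haveI : ΩZ'.IsQuasicoherent := Kaehler.Finite.isQuasicoherent hdZ'
  haveI : ((Scheme.Modules.pullback h').obj ΩX).IsQuasicoherent :=
    QCoh.Pullback.isQCoh_pullback h' _
  haveI : ((Scheme.Modules.pullback i).obj ((Scheme.Modules.pullback h').obj ΩX)).IsQuasicoherent :=
    QCoh.Pullback.isQCoh_pullback i _
  haveI : ((Scheme.Modules.pullback i).obj ΩZ').IsQuasicoherent :=
    QCoh.Pullback.isQCoh_pullback i _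
  have key : ∀ z : Z, ∃ W : Z.Opens, IsAffineOpen W ∧ z ∈ W ∧
      Function.Bijective (((Scheme.Modules.pullback i).map c).app W) := fun z => by
    obtain ⟨S₀, hS₀, hs, -⟩ :=
      exists_isAffineOpen_mem_and_subset (U := ⊤) (x := q (h' (i z))) trivial
    obtain ⟨X₀, hX₀, hx, hXS⟩ :=
      exists_isAffineOpen_mem_and_subset (U := q ⁻¹ᵁ S₀) (x := h' (i z)) hs
    obtain ⟨V, hV, hzV, hVX⟩ :=
      exists_isAffineOpen_mem_and_subset (U := h' ⁻¹ᵁ X₀) (x := i z) hx
    exact ⟨i ⁻¹ᵁ V, hV.preimage i, hzV,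
      bijective_chart hu hdX hdZ' hc hS₀ hX₀ (fun y hy => hXS hy) hV (fun y hy => hVX hy)⟩
  haveI : Mono ((Scheme.Modules.pullback i).map c) := QCohChart.Basic.mono_of_charts _ fun z => by
    obtain ⟨W, h1, h2, h3⟩ := key z; exact ⟨W, h1, h2, h3.1⟩
  haveI : Epi ((Scheme.Modules.pullback i).map c) := QCohChart.Basic.epi_of_charts _ fun z => by
    obtain ⟨W, h1, h2, h3⟩ := key z; exact ⟨W, h1, h2, h3.2⟩
  exact isIso_of_mono_of_epi _

end Groth.Agent.Lib.UnivThickAff.DiffIso
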