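import Groth.Agent.Lib.UnivThickAff.Retract
import Groth.Agent.Lib.Synt92.KoszulScheme
import Groth.Agent.Lib.Synt92.KRImm
import Groth.Agent.Lib.Synt92.KRIdeal
import Groth.Agent.H54.NLPerfect
import Groth.Agent.Lib.QCohChart.Free

/-!
# The conormal sheaf of the universal thickening of a Koszul morphism
-/

set_option autoImplicit false

universe u

open CategoryTheory CategoryTheory.Limits AlgebraicGeometry TopologicalSpace Opposite OmegaSh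
open Groth.Agent.Lib Groth.Agent.Lib.Synt92

namespace Groth.Agent.Lib.UnivThickAff.KoszulChart

variable {Z Z' X : Scheme.{u}} {h : Z ⟶ X} {i : Z ⟶ Z'} {h' : Z' ⟶ X}

/-- Near every point, a smooth presentation with Koszul-regular kernel compatible with affine charts
of the universal thickening. -/
theorem exists_chart (hu : IsUnivThickening h i h') (hk : ∀ z : Z, Synt.IsKoszulAt h z) (z : Z) :
    ∃ (U : X.Opens) (V : Z'.Opens) (e : V ≤ h' ⁻¹ᵁ U) (P : CommRingCat.{u}) (π : Γ(X, U) ⟶ P)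
      (q : P ⟶ Γ(Z, i ⁻¹ᵁ V)), IsAffineOpen U ∧ IsAffineOpen V ∧ i z ∈ V ∧ π.hom.Smooth ∧
      Function.Surjective q.hom ∧ π ≫ q = h'.appLE U V e ≫ i.app V ∧
      LCI.IsKoszulRegularIdeal (RingHom.ker q.hom) := by
  haveI : IsClosedImmersion i := hu.1.1.1
  obtain ⟨UZ, P₀, i₀, π₀, hzU, -, ⟨-, hi₀⟩, hπ, hfac⟩ := hk z
  obtain ⟨⟨WP, hWP⟩, hzW, hcl, rs, hrs, hker⟩ := hi₀ ⟨z, hzU⟩
  obtain ⟨U, hU, hfU, -⟩ :=
    exists_isAffineOpen_mem_and_subset (X := X) (x := π₀ (i₀ ⟨z, hzU⟩)) (U := ⊤) trivial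
  obtain ⟨g, hgU, hzg⟩ := hWP.exists_basicOpen_le (V := π₀ ⁻¹ᵁ U) ⟨i₀ ⟨z, hzU⟩, hfU⟩ hzW
  let D := P₀.basicOpen g
  have hD : IsAffineOpen D := hWP.basicOpen g
  haveI : IsClosedImmersion (i₀ ∣_ D) := KRImm.closed_of_le i₀ (P₀.basicOpen_le g) hcl
  let O : UZ.toScheme.Opens := i₀ ⁻¹ᵁ D
  obtain ⟨hO, hsO⟩ := KRImm.isAffine_preimage i₀ hD ‹_›
  have hz' : i z ∈ h' ⁻¹ᵁ U := by
    show (i ≫ h') z ∈ U
    rw [hu.2.1]
    have e1 : (UZ.ι ≫ h) ⟨z, hzU⟩ = (i₀ ≫ π₀) ⟨z, hzU⟩ := by rw [hfac]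
    rw [Scheme.Hom.comp_apply, Scheme.Hom.comp_apply] at e1
    exact e1 ▸ hfU
  obtain ⟨V₀, hV₀, hzV₀, hV₀U⟩ := exists_isAffineOpen_mem_and_subset (U := h' ⁻¹ᵁ U) (x := i z) hz'
  have hW₁ : IsAffineOpen (UZ.ι ''ᵁ O) := hO.image_of_isOpenImmersion UZ.ι
  obtain ⟨f, c, hfc, hzf⟩ := exists_basicOpen_le_affine_inter (hV₀.preimage i) hW₁ z
    ⟨hzV₀, ⟨⟨z, hzU⟩, hzg, rfl⟩⟩
  obtain ⟨a, ha⟩ := i.app_surjective V₀ hV₀ f
  subst ha
  rw [← Scheme.preimage_basicOpen] at hfc hzf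
  let V := Z'.basicOpen a
  have hV : IsAffineOpen V := hV₀.basicOpen a
  obtain ⟨d, hd⟩ := hsO ((UZ.ι.appIso O).hom c)
  let D' := P₀.basicOpen d
  have hD' : IsAffineOpen D' := hD.basicOpen d
  haveI : IsClosedImmersion (i₀ ∣_ D') := KRImm.closed_of_le i₀ (P₀.basicOpen_le d) ‹_›
  obtain ⟨hO', hsO'⟩ := KRImm.isAffine_preimage i₀ hD' ‹_›
  have eW : UZ.ι ''ᵁ (i₀ ⁻¹ᵁ D') = i ⁻¹ᵁ V := by
    rw [hfc, show i₀ ⁻¹ᵁ D' = UZ.toScheme.basicOpen ((i₀.app D).hom d) from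
      Scheme.preimage_basicOpen i₀ d, hd, Scheme.image_basicOpen, Iso.hom_inv_id_apply]
  have hD'U : D' ≤ π₀ ⁻¹ᵁ U := (P₀.basicOpen_le d).trans hgU
  have eV : V ≤ h' ⁻¹ᵁ U := fun x hx => hV₀U (Z'.basicOpen_le a hx)
  let r : Γ(UZ.toScheme, i₀ ⁻¹ᵁ D') ⟶ Γ(Z, i ⁻¹ᵁ V) :=
    (UZ.ι.appIso (i₀ ⁻¹ᵁ D')).inv ≫ Z.presheaf.map (eqToHom eW.symm).op
  have hr : Function.Bijective r := ConcreteCategory.bijective_of_isIso r
  refine ⟨U, V, eV, Γ(P₀, D'), π₀.appLE U D' hD'U, i₀.app D' ≫ r, hU, hV, hzf,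
    π₀.smooth_appLE hU hD' hD'U, hr.2.comp hsO', ?_, ?_⟩
  · have key : ∀ (q q' : Z ⟶ X) (_ : q = q') (W : Z.Opens) (e : W ≤ q ⁻¹ᵁ U) (e' : W ≤ q' ⁻¹ᵁ U),
        q.appLE U W e = q'.appLE U W e' := by rintro q _ rfl W e e'; rfl
    have key' : ∀ (q q' : UZ.toScheme ⟶ X) (_ : q = q') (W : UZ.toScheme.Opens) (e : W ≤ q ⁻¹ᵁ U)
        (e' : W ≤ q' ⁻¹ᵁ U), q.appLE U W e = q'.appLE U W e' := by rintro q _ rfl W e e'; rfl
    have eO' : i₀ ⁻¹ᵁ D' ≤ (UZ.ι ≫ h) ⁻¹ᵁ U := by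
      rw [← hfac]
      exact i₀.preimage_mono hD'U
    have eh : i ⁻¹ᵁ V ≤ h ⁻¹ᵁ U := fun x hx => by
      show h x ∈ U
      rw [← hu.2.1, Scheme.Hom.comp_apply]
      exact eV hx
    have eW' : UZ.ι ''ᵁ (i₀ ⁻¹ᵁ D') ≤ h ⁻¹ᵁ U := eW.le.trans eh
    have h1 : π₀.appLE U D' hD'U ≫ i₀.app D' = (UZ.ι ≫ h).appLE U (i₀ ⁻¹ᵁ D') eO' := by
      rw [Scheme.Hom.app_eq_appLE, Scheme.Hom.appLE_comp_appLE]
      exact key' _ _ hfac _ _ _
    have h2 : h'.appLE U V eV ≫ i.app V = h.appLE U (i ⁻¹ᵁ V) eh := by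
      rw [Scheme.Hom.app_eq_appLE, Scheme.Hom.appLE_comp_appLE]
      exact key _ _ hu.2.1 _ _ _
    rw [← Category.assoc, h1, h2, KoszulScheme.appLE_ι_comp h UZ (i₀ ⁻¹ᵁ D') eO' eW']
    simp only [r, Scheme.Opens.ι_appIso, Iso.refl_inv, Category.id_comp]
    exact Scheme.Hom.appLE_map _ _ _
  · refine (KRIdeal.isKoszulRegularIdeal_iff _).2 fun Q _ => ⟨rs.length, ?_⟩
    haveI := Q.isPrime
    refine KRLoc.genLoc_of_gen ?_ _
    have hker' : RingHom.ker (i₀.app D' ≫ r).hom = RingHom.ker (i₀.app D').hom := by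
      ext x
      exact ⟨fun hx => hr.1 (hx.trans (map_zero r.hom).symm), fun hx => by
        show r.hom (i₀.app D' x) = 0
        rw [show i₀.app D' x = 0 from hx, map_zero]⟩
    rw [hker', KRImm.ker_app_basicOpen i₀ hD ‹_› d, KRImm.ker_app_basicOpen i₀ hWP hcl g]
    haveI := hWP.isLocalization_basicOpen g
    haveI := hD.isLocalization_basicOpen d
    refine KRLoc.gen_map _ ?_ (KRLoc.gen_map _ ?_ (KRLoc.gen_of_list hrs hker))
    · letI := (P₀.presheaf.map (homOfLE (P₀.basicOpen_le d)).op).hom.toAlgebra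
      exact RingHom.flat_algebraMap_iff.2 (IsLocalization.flat (S := Γ(P₀, D')) (Submonoid.powers d))
    · letI := (P₀.presheaf.map (homOfLE (P₀.basicOpen_le g)).op).hom.toAlgebra
      exact RingHom.flat_algebraMap_iff.2 (IsLocalization.flat (S := Γ(P₀, D)) (Submonoid.powers g))

theorem isFinLocFree (hu : IsUnivThickening h i h') (hk : ∀ z : Z, Synt.IsKoszulAt h z) :
    FlatMod.IsFinLocFree (Omega.conormal i) := by
  haveI : IsClosedImmersion i := hu.1.1.1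
  haveI := Conormal92.Affine.isQCoh_conormal i
  refine QCohChart.Free.isFinLocFree _ fun z => ?_
  obtain ⟨U, V, e, P, π, q, hU, hV, hzV, hsm, hq, hc, hkr⟩ := exists_chart hu hk z
  refine ⟨i ⁻¹ᵁ V, hV.preimage i, hzV, ?_⟩
  letI : Algebra Γ(X, U) Γ(Z, i ⁻¹ᵁ V) := (h'.appLE U V e ≫ i.app V).hom.toAlgebra
  letI : Algebra Γ(X, U) P := π.hom.toAlgebra
  let qA : P →ₐ[Γ(X, U)] Γ(Z, i ⁻¹ᵁ V) :=
    { toRingHom := q.hom, commutes' := fun r => congr($hc r) }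
  let E := Algebra.Extension.ofSurjective qA hq
  haveI : Algebra.Smooth Γ(X, U) P := hsm
  have hfs : Algebra.FormallySmooth Γ(X, U) E.Ring :=
    (inferInstance : Algebra.FormallySmooth Γ(X, U) P)
  exact Retract.finite_projective hu hU hV e E hfs (H54.NLPerfect.finite_projective_cotangent E hkr)

end Groth.Agent.Lib.UnivThickAff.KoszulChart
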