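import Groth.Agent.Lib.Synt92.KRLoc
import Groth.Agent.Lib.Synt92.KoszulH1
import Mathlib.RingTheory.Flat.Stability
import Mathlib.RingTheory.MvPolynomial.Localization
import Mathlib.LinearAlgebra.TensorProduct.Basic

/-!
# Lifting a Koszul presentation along a square-zero thickening
-/

set_option autoImplicit false

universe u

open scoped TensorProduct
open Groth.Agent.Lib.Synt92

namespace Groth.Agent.Lib.UnivThickAff.LiftExt

variable {B' B C : Type u} [CommRing B'] [CommRing B] [CommRing C] [Algebra B' B] [Algebra B C]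
  [Algebra B' C] [IsScalarTower B' B C]

/-- A square-zero extension of `C` over `B'` with kernel `C ⊗ J`. -/
theorem exists_extension (hs : Function.Surjective (algebraMap B' B))
    (hJ : ∀ x y, algebraMap B' B x = 0 → algebraMap B' B y = 0 → x * y = 0)
    {M : Type u} [AddCommGroup M] [Module B M] [Module B' M] [IsScalarTower B' B M]
    (cl : RingHom.ker (algebraMap B' B) →ₗ[B'] M)
    {P' : Type u} [CommRing P'] [Algebra B' P'] [Module.Flat B' P']
    (σ : P' →ₐ[B'] C) (hσ : Function.Surjective σ)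
    {P : Type u} [CommRing P] (τ : P' →+* P) (hτ : Function.Surjective τ)
    (hτk : RingHom.ker τ = (RingHom.ker (algebraMap B' B)).map (algebraMap B' P'))
    (π : P →+* C) (hπ : π.comp τ = σ.toRingHom) {m : ℕ} (hgen : KRLoc.Gen m (RingHom.ker π)) :
    ∃ (Ct : Type u) (_ : CommRing Ct) (ι : B' →+* Ct) (q : Ct →+* C),
      Function.Surjective q ∧ (∀ x y, q x = 0 → q y = 0 → x * y = 0) ∧
      q.comp ι = algebraMap B' C ∧
      ∀ (k : ℕ) (c : Fin k → Ct) (y : Fin k → RingHom.ker (algebraMap B' B)),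
        ∑ i, c i * ι (y i) = 0 → ∑ i, q (c i) ⊗ₜ[B] cl (y i) = 0 := by
  classical
  obtain ⟨f, hf, hker⟩ := hgen
  choose f' hf' using fun i => hτ (f i)
  let J := RingHom.ker (algebraMap B' B)
  let K' : Ideal P' := Ideal.span (Set.range f')
  have hσf : ∀ i, σ (f' i) = 0 := fun i => by
    have h := RingHom.congr_fun hπ (f' i)
    rw [RingHom.comp_apply, hf'] at h
    exact h.symm.trans (RingHom.mem_ker.1 (hker ▸ Ideal.subset_span ⟨i, rfl⟩))
  have hK' : K' ≤ RingHom.ker σ.toRingHom := Ideal.span_le.2 (by rintro _ ⟨i, rfl⟩; exact hσf i)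
  let q : P' ⧸ K' →+* C := Ideal.Quotient.lift K' σ.toRingHom hK'
  have hkerσ : ∀ x, σ x = 0 → x ∈ K' ⊔ RingHom.ker τ := fun x hx => by
    have h : τ x ∈ RingHom.ker π := (RingHom.congr_fun hπ x).trans hx
    rw [hker, show Set.range f = τ '' Set.range f' by
      rw [← Set.range_comp]; exact congrArg Set.range (funext fun i => (hf' i).symm),
      ← Ideal.map_span] at h
    have h2 : x ∈ ((K' : Ideal P').map τ).comap τ := h
    rwa [Ideal.comap_map_of_surjective τ hτ, ← RingHom.ker_eq_comap_bot] at h2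
  refine ⟨P' ⧸ K', inferInstance, (Ideal.Quotient.mk K').comp (algebraMap B' P'), q,
    fun c => ?_, fun x y hx hy => ?_, RingHom.ext fun b => σ.commutes b, fun k c y hsum => ?_⟩
  · obtain ⟨x, rfl⟩ := hσ c
    exact ⟨Ideal.Quotient.mk _ x, rfl⟩
  · obtain ⟨x, rfl⟩ := Ideal.Quotient.mk_surjective x
    obtain ⟨y, rfl⟩ := Ideal.Quotient.mk_surjective y
    obtain ⟨x₁, hx₁, x₂, hx₂, rfl⟩ := Submodule.mem_sup.1 (hkerσ x hx)
    obtain ⟨y₁, hy₁, y₂, hy₂, rfl⟩ := Submodule.mem_sup.1 (hkerσ y hy)
    rw [hτk] at hx₂ hy₂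
    have h0 : x₂ * y₂ = 0 := by
      have h1 := Ideal.mul_mem_mul hx₂ hy₂
      rw [← Ideal.map_mul, show J * J = ⊥ from eq_bot_iff.2 (Ideal.mul_le.2 fun a ha b hb =>
        Ideal.mem_bot.2 (hJ a b ha hb)), Ideal.map_bot] at h1
      exact h1
    rw [map_add, map_add, Ideal.Quotient.eq_zero_iff_mem.2 hx₁, Ideal.Quotient.eq_zero_iff_mem.2 hy₁,
      zero_add, zero_add, ← map_mul, h0, map_zero]
  -- the map `P' ⊗ J → C ⊗ M`
  let β : P' →ₗ[B'] J →ₗ[B'] C ⊗[B] M := LinearMap.mk₂ B' (fun p t => σ p ⊗ₜ[B] cl t)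
    (fun p p' t => by rw [map_add, TensorProduct.add_tmul])
    (fun r p t => by rw [map_smul, TensorProduct.smul_tmul'])
    (fun p t t' => by rw [map_add, TensorProduct.tmul_add])
    (fun r p t => by rw [map_smul, TensorProduct.tmul_smul])
  let Λ : P' ⊗[B'] J →ₗ[B'] C ⊗[B] M := TensorProduct.lift β
  let μ : P' ⊗[B'] J →ₗ[B'] P' :=
    (TensorProduct.rid B' P').toLinearMap ∘ₗ LinearMap.lTensor P' J.subtype
  have hμ : ∀ (p : P') (t : J), μ (p ⊗ₜ t) = algebraMap B' P' t.1 * p := fun p t => by
    show TensorProduct.rid B' P' (p ⊗ₜ[B'] (t.1 : B')) = _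
    rw [TensorProduct.rid_tmul, Algebra.smul_def]
  have hμinj : Function.Injective μ := by
    refine (TensorProduct.rid B' P').injective.comp ?_
    exact Module.Flat.lTensor_preserves_injective_linearMap J.subtype J.injective_subtype
  choose p hp using fun i => Ideal.Quotient.mk_surjective (c i)
  have hmem : ∑ i, algebraMap B' P' (y i).1 * p i ∈ K' := by
    rw [← Ideal.Quotient.eq_zero_iff_mem, map_sum, ← hsum]
    exact Finset.sum_congr rfl fun i _ => by rw [map_mul, hp, mul_comm]; rfl
  obtain ⟨a, ha⟩ := Ideal.mem_span_range_iff_exists_fun.1 hmem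
  have hτy : ∀ t : J, τ (algebraMap B' P' t.1) = 0 := fun t =>
    RingHom.mem_ker.1 (hτk ▸ Ideal.mem_map_of_mem _ t.2)
  have hrel : ∑ i, f i • τ (a i) = 0 := by
    have h := congrArg τ ha
    rw [map_sum, map_sum, Finset.sum_eq_zero (s := Finset.univ)
      (f := fun i => τ (algebraMap B' P' (y i).1 * p i)) fun i _ => by rw [map_mul, hτy, zero_mul]] at h
    refine Eq.trans ?_ h
    exact Finset.sum_congr rfl fun i _ => by rw [map_mul, hf', smul_eq_mul, mul_comm]
  obtain ⟨s, hs'⟩ := KoszulH1.isTriv_of_acyc hf _ hrel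
  choose S hS using fun i j => hτ (s i j)
  have hd : ∀ i, ∃ w : P' ⊗[B'] J, μ w = a i - ∑ j, f' j * (S i j - S j i) := fun i => by
    have h1 : a i - ∑ j, f' j * (S i j - S j i) ∈ RingHom.ker τ := by
      rw [RingHom.mem_ker, map_sub, map_sum, show τ (a i) = _ from hs' i, sub_eq_zero]
      exact Finset.sum_congr rfl fun j _ => by rw [smul_eq_mul, map_mul, map_sub, hf', hS, hS]
    rw [hτk, Ideal.map] at h1
    generalize a i - ∑ j, f' j * (S i j - S j i) = x at h1 ⊢
    induction h1 using Submodule.span_induction with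
    | mem x hx =>
      obtain ⟨t, ht, rfl⟩ := hx
      exact ⟨1 ⊗ₜ ⟨t, ht⟩, by rw [hμ, mul_one]⟩
    | zero => exact ⟨0, map_zero _⟩
    | add x y _ _ hx hy =>
      obtain ⟨wx, hwx⟩ := hx
      obtain ⟨wy, hwy⟩ := hy
      exact ⟨wx + wy, by rw [map_add, hwx, hwy]⟩
    | smul r x _ hx =>
      obtain ⟨wx, rfl⟩ := hx
      rename_i hclr
      clear hclr
      refine ⟨LinearMap.rTensor J (LinearMap.mulLeft B' r) wx, ?_⟩
      induction wx using TensorProduct.induction_on with
      | zero => simp
      | tmul p t => rw [LinearMap.rTensor_tmul, LinearMap.mulLeft_apply, hμ, hμ, smul_eq_mul]; ring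
      | add x y hx hy => simp only [map_add, hx, hy, smul_add]
  choose w hw using hd
  let T : Fin m → P' ⊗[B'] J := fun i => LinearMap.rTensor J (LinearMap.mulLeft B' (f' i)) (w i)
  have hT : ∀ i, μ (T i) = f' i * μ (w i) ∧ Λ (T i) = 0 := fun i => by
    show μ (LinearMap.rTensor J (LinearMap.mulLeft B' (f' i)) (w i)) = _ ∧
      Λ (LinearMap.rTensor J (LinearMap.mulLeft B' (f' i)) (w i)) = 0
    generalize w i = v
    induction v using TensorProduct.induction_on with
    | zero => simp
    | tmul p t =>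
      refine ⟨by rw [LinearMap.rTensor_tmul, LinearMap.mulLeft_apply, hμ, hμ]; ring, ?_⟩
      rw [LinearMap.rTensor_tmul, LinearMap.mulLeft_apply]
      show σ (f' i * p) ⊗ₜ[B] cl t = 0
      rw [map_mul, hσf, zero_mul, TensorProduct.zero_tmul]
    | add x y hx hy =>
      exact ⟨by simp only [map_add, hx.1, hy.1, mul_add], by simp only [map_add, hx.2, hy.2, add_zero]⟩
  have hanti : ∑ i, f' i * ∑ j, f' j * (S i j - S j i) = 0 := by
    simp only [Finset.mul_sum, mul_sub, Finset.sum_sub_distrib]
    rw [sub_eq_zero]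
    conv_lhs => rw [Finset.sum_comm]
    exact Finset.sum_congr rfl fun i _ => Finset.sum_congr rfl fun j _ => by ring
  have hzero : ∑ i, p i ⊗ₜ[B'] y i - ∑ i, T i = 0 := by
    apply hμinj
    rw [map_sub, map_zero, map_sum, map_sum]
    simp only [hμ, (hT _).1, hw]
    rw [Finset.sum_congr (s₁ := (Finset.univ : Finset (Fin m))) rfl
      fun i _ => mul_sub (f' i) (a i) (∑ j, f' j * (S i j - S j i)), Finset.sum_sub_distrib, hanti,
      sub_zero, sub_eq_zero, ← ha]
    exact Finset.sum_congr rfl fun i _ => mul_comm _ _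
  have h := congrArg Λ hzero
  rw [map_sub, map_zero, map_sum, map_sum, Finset.sum_eq_zero (f := fun i => Λ (T i))
    fun i _ => (hT i).2, sub_zero] at h
  refine Eq.trans (Finset.sum_congr rfl fun i _ => ?_) h
  rw [← hp i]
  rfl

/-- The lift of a localized polynomial algebra along a surjection. -/
theorem exists_lift (hs : Function.Surjective (algebraMap B' B)) {n : ℕ}
    (g : MvPolynomial (Fin n) B) (π : Localization.Away g →ₐ[B] C) (hπ : Function.Surjective π) :
    ∃ (P' : Type u) (_ : CommRing P') (_ : Algebra B' P') (_ : Module.Flat B' P') (σ : P' →ₐ[B'] C)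
      (τ : P' →+* Localization.Away g), Function.Surjective σ ∧ Function.Surjective τ ∧
      RingHom.ker τ = (RingHom.ker (algebraMap B' B)).map (algebraMap B' P') ∧
      π.toRingHom.comp τ = σ.toRingHom := by
  let μ := MvPolynomial.map (σ := Fin n) (algebraMap B' B)
  obtain ⟨g', hg'⟩ := MvPolynomial.map_surjective (σ := Fin n) (algebraMap B' B) hs g
  haveI : IsLocalization ((Submonoid.powers g').map μ) (Localization.Away g) := by
    rw [Submonoid.map_powers, show μ g' = g from hg']
    infer_instance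
  let τ : Localization.Away g' →+* Localization.Away g :=
    IsLocalization.map (M := Submonoid.powers g') (Localization.Away g) μ (Submonoid.le_comap_map _)
  have hτc : τ.comp (algebraMap _ _) = (algebraMap _ _).comp μ :=
    IsLocalization.map_comp (Submonoid.le_comap_map _)
  have hτ : Function.Surjective τ := IsLocalization.map_surjective_of_surjective _ _ _
    (MvPolynomial.map_surjective _ hs)
  haveI : Module.Flat (MvPolynomial (Fin n) B') (Localization.Away g') :=
    IsLocalization.flat _ (Submonoid.powers g')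
  haveI : Module.Flat B' (Localization.Away g') :=
    Module.Flat.trans B' (MvPolynomial (Fin n) B') (Localization.Away g')
  refine ⟨Localization.Away g', inferInstance, inferInstance, inferInstance,
    { toRingHom := π.toRingHom.comp τ, commutes' := fun b => ?_ }, τ, hπ.comp hτ, hτ, ?_, rfl⟩
  · show π (τ (algebraMap B' (Localization.Away g') b)) = _
    rw [IsScalarTower.algebraMap_apply B' (MvPolynomial (Fin n) B') (Localization.Away g')]
    erw [RingHom.congr_fun hτc (algebraMap B' (MvPolynomial (Fin n) B') b)]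
    rw [RingHom.comp_apply, MvPolynomial.algebraMap_eq]
    show π (algebraMap _ _ (MvPolynomial.map _ (MvPolynomial.C b))) = _
    rw [MvPolynomial.map_C, ← MvPolynomial.algebraMap_eq, ← IsScalarTower.algebraMap_apply,
      π.commutes, ← IsScalarTower.algebraMap_apply]
  · rw [IsLocalization.ker_map (S := Localization.Away g') (Localization.Away g) μ rfl,
      MvPolynomial.ker_map, Ideal.map_map]
    rfl

end Groth.Agent.Lib.UnivThickAff.LiftExt
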