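import Groth.Agent.Lib.UnivThickAff.Transitivity
import Groth.Agent.Lib.UnivThickAff.LiftExt
import Groth.Agent.Lib.Synt92.KRSpec
import Groth.Agent.Lib.Synt92.KRMor
import Mathlib.AlgebraicGeometry.Morphisms.FiniteType

/-!
# Left exactness of the conormal transitivity sequence along a Koszul morphism
-/

set_option autoImplicit false

universe u

open CategoryTheory CategoryTheory.Limits AlgebraicGeometry TopologicalSpace Opposite OmegaSh
open Groth.Agent.Lib Groth.Agent.Lib.Synt92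
open scoped TensorProduct

namespace Groth.Agent.Lib.UnivThickAff.LciInject

/-- Uniqueness of maps out of an affine chart of a universal thickening, over any affine test
thickening mapping into the chart. -/
theorem hom_unique {Z Z' X : Scheme.{u}} {h : Z ⟶ X} {i : Z ⟶ Z'} {h' : Z' ⟶ X}
    (hu : IsUnivThickening h i h') {U : X.Opens} (hU : IsAffineOpen U) {V : Z'.Opens}
    (hV : IsAffineOpen V) (e : V ≤ h' ⁻¹ᵁ U) {B C : CommRingCat.{u}} (a : Spec B ⟶ Z)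
    (r : Γ(Z', V) ⟶ B) (hr : Spec.map r ≫ hV.fromSpec = a ≫ i) (q : C ⟶ B)
    (hq : Function.Surjective q.hom) (hk : ∀ x y, q.hom x = 0 → q.hom y = 0 → x * y = 0)
    (φ ψ : Γ(Z', V) ⟶ C) (hφ : φ ≫ q = r) (hψ : ψ ≫ q = r)
    (hφψ : h'.appLE U V e ≫ φ = h'.appLE U V e ≫ ψ) : φ = ψ := by
  have hj := isFirstOrderThickening_specMap q hq hk
  let l : (Γ(Z', V) ⟶ C) → (Spec C ⟶ Z') := fun χ => Spec.map χ ≫ hV.fromSpec
  have hl₁ : ∀ χ, χ ≫ q = r → Spec.map q ≫ l χ = a ≫ i := fun χ hχ => by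
    simp only [l]
    rw [← Category.assoc, ← Spec.map_comp, hχ, hr]
  have hl₂ : ∀ χ, l χ ≫ h' = Spec.map (h'.appLE U V e ≫ χ) ≫ hU.fromSpec := fun χ => by
    simp only [l]
    rw [Spec.map_comp, Category.assoc, Category.assoc,
      IsAffineOpen.SpecMap_appLE_fromSpec h' hU hV e]
  obtain ⟨a', -, ha'⟩ := hu.2.2 _ _ (Spec.map q) (l φ ≫ h') a hj (by
    rw [← Category.assoc, hl₁ φ hφ, Category.assoc, hu.2.1])
  have h1 := ha' (l φ) ⟨hl₁ φ hφ, rfl⟩
  have h2 := ha' (l ψ) ⟨hl₁ ψ hψ, by rw [hl₂, hl₂, hφψ]⟩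
  exact Spec.map_injective ((cancel_mono hV.fromSpec).1 (h1.trans h2.symm))

variable {Z Y X Z' Y' : Scheme.{u}} {i : Z ⟶ Y} {b : Y ⟶ X}
  {i' : Z ⟶ Z'} {c : Z' ⟶ X} {j : Y ⟶ Y'} {d : Y' ⟶ X} {m : Z' ⟶ Y'}

theorem locallyOfFiniteType (hlci : ∀ z : Z, Synt.IsKoszulAt i z) : LocallyOfFiniteType i := by
  choose U P e π hzU hU hrest using hlci
  refine IsZariskiLocalAtSource.of_iSup_eq_top U (top_le_iff.1 fun z _ => ?_) hU
  exact Opens.mem_iSup.2 ⟨z, hzU z⟩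

/-- A chart of `Z'` over a chart of `Y'` on which `Z` has a Koszul presentation in affine space
over `Y`. -/
theorem exists_presentation [IsClosedImmersion i'] [IsClosedImmersion j]
    (hm₁ : i' ≫ m = i ≫ j) (hlci : ∀ z : Z, Synt.IsKoszulAt i z) {VY : Y'.Opens}
    (hVY : IsAffineOpen VY) {V₀ : Z'.Opens} (hV₀ : IsAffineOpen V₀) (eV₀ : V₀ ≤ m ⁻¹ᵁ VY) (z : Z)
    (hz : i' z ∈ V₀) :
    ∃ (V' : Z'.Opens) (_ : IsAffineOpen V') (_ : i' z ∈ V') (_ : V' ≤ m ⁻¹ᵁ VY)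
      (eW : i' ⁻¹ᵁ V' ≤ i ⁻¹ᵁ (j ⁻¹ᵁ VY)) (N : ℕ) (g : MvPolynomial (Fin N) Γ(Y, j ⁻¹ᵁ VY))
      (π : Localization.Away g →+* Γ(Z, i' ⁻¹ᵁ V')) (r : ℕ), Function.Surjective π ∧
        π.comp (algebraMap Γ(Y, j ⁻¹ᵁ VY) (Localization.Away g)) =
          (i.appLE (j ⁻¹ᵁ VY) (i' ⁻¹ᵁ V') eW).hom ∧ KRLoc.Gen r (RingHom.ker π) := by
  haveI := locallyOfFiniteType hlci
  let WY := j ⁻¹ᵁ VY
  have hWY : IsAffineOpen WY := hVY.preimage j
  let W₀ := i' ⁻¹ᵁ V₀
  have hW₀ : IsAffineOpen W₀ := hV₀.preimage i'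
  have eW₀ : W₀ ≤ i ⁻¹ᵁ WY := by
    show _ ≤ (i ≫ j) ⁻¹ᵁ VY
    rw [← hm₁]
    exact i'.preimage_mono eV₀
  letI : Algebra Γ(Y, WY) Γ(Z, W₀) := (i.appLE WY W₀ eW₀).hom.toAlgebra
  haveI : Algebra.FiniteType Γ(Y, WY) Γ(Z, W₀) :=
    RingHom.finiteType_algebraMap.1 (Scheme.Hom.finiteType_appLE i hWY hW₀ eW₀)
  obtain ⟨N, π₀, hπ₀⟩ := Algebra.FiniteType.iff_quotient_mvPolynomial''.1 ‹_›
  let P := CommRingCat.of (MvPolynomial (Fin N) Γ(Y, WY))
  let φ₀ : P ⟶ Γ(Z, W₀) := CommRingCat.ofHom π₀.toRingHom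
  let base : Γ(Y, WY) ⟶ P := CommRingCat.ofHom (algebraMap Γ(Y, WY) (MvPolynomial (Fin N) Γ(Y, WY)))
  haveI : Smooth (Spec.map base) := by
    rw [HasRingHomProperty.Spec_iff (P := @Smooth)]
    refine RingHom.smooth_algebraMap.2 ?_
    exact { formallySmooth := inferInstance, finitePresentation := inferInstance }
  haveI : IsClosedImmersion (Spec.map φ₀) := IsClosedImmersion.spec_of_surjective φ₀ hπ₀
  have hfac : Spec.map φ₀ ≫ Spec.map base ≫ hWY.fromSpec = hW₀.fromSpec ≫ i := by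
    rw [← Category.assoc, ← Spec.map_comp, show base ≫ φ₀ = i.appLE WY W₀ eW₀ from
      CommRingCat.hom_ext (RingHom.ext fun x => π₀.commutes x)]
    exact IsAffineOpen.SpecMap_appLE_fromSpec i hWY hW₀ eW₀
  let w : Spec Γ(Z, W₀) := hW₀.primeIdealOf ⟨z, hz⟩
  obtain ⟨r, hr⟩ := KRMor.exists_atN_of_koszulAt' i hW₀.fromSpec (Spec.map base ≫ hWY.fromSpec)
    (Spec.map φ₀) hfac w (hlci _)
  obtain ⟨g, hg, hgen⟩ := (KRSpec.atN_specMap_iff φ₀ hπ₀ w r).1 hr
  obtain ⟨a, ha⟩ := i'.app_surjective V₀ hV₀ (π₀ g)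
  have hpre : i' ⁻¹ᵁ Z'.basicOpen a = Z.basicOpen (π₀ g) := by
    rw [Scheme.preimage_basicOpen, ha]
  have hzV : i' z ∈ Z'.basicOpen a := by
    show z ∈ i' ⁻¹ᵁ Z'.basicOpen a
    rw [hpre]
    exact (KRImm.mem_basicOpen_iff hW₀ _ ⟨z, hz⟩).2 hg
  have eV : Z'.basicOpen a ≤ m ⁻¹ᵁ VY := (Z'.basicOpen_le a).trans eV₀
  have eWW₀ : i' ⁻¹ᵁ Z'.basicOpen a ≤ W₀ := i'.preimage_mono (Z'.basicOpen_le a)
  let C := Γ(Z, i' ⁻¹ᵁ Z'.basicOpen a)
  let res : Γ(Z, W₀) ⟶ C := Z.presheaf.map (homOfLE eWW₀).op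
  letI : Algebra Γ(Z, W₀) C := res.hom.toAlgebra
  haveI : IsLocalization.Away (π₀ g) C :=
    hW₀.isLocalization_of_eq_basicOpen _ (homOfLE eWW₀) hpre
  haveI : IsLocalization ((Submonoid.powers g).map π₀.toRingHom) C := by
    rw [Submonoid.map_powers]
    exact ‹IsLocalization.Away (π₀ g) C›
  let π : Localization.Away g →+* C :=
    IsLocalization.map (M := Submonoid.powers g) C π₀.toRingHom (Submonoid.le_comap_map _)
  refine ⟨Z'.basicOpen a, hV₀.basicOpen a, hzV, eV, eWW₀.trans eW₀, N, g, π, r,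
    IsLocalization.map_surjective_of_surjective _ _ _ hπ₀, RingHom.ext fun x => ?_, ?_⟩
  · rw [RingHom.comp_apply,
      IsScalarTower.algebraMap_apply Γ(Y, WY) (MvPolynomial (Fin N) Γ(Y, WY)) (Localization.Away g)]
    erw [IsLocalization.map_eq]
    show res (π₀ (algebraMap Γ(Y, WY) _ x)) = _
    rw [π₀.commutes]
    exact congr($(Scheme.Hom.appLE_map i eW₀ (homOfLE eWW₀).op) x)
  · rw [show RingHom.ker π = (RingHom.ker π₀.toRingHom).map (algebraMap _ (Localization.Away g)) from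
      IsLocalization.ker_map (S := Localization.Away g) C π₀.toRingHom rfl]
    exact hgen

/-- Left exactness. -/
theorem mono (hZ' : IsUnivThickening (i ≫ b) i' c) (hY' : IsUnivThickening b j d)
    (hm₁ : i' ≫ m = i ≫ j) (hm₂ : m ≫ d = c)
    {ψ₁ : (Scheme.Modules.pullback i).obj (Omega.conormal j) ⟶ Omega.conormal i'}
    (hψ₁ : IsConormalMap i' j m i ψ₁) (hlci : ∀ z : Z, Synt.IsKoszulAt i z) : Mono ψ₁ := by
  haveI : IsClosedImmersion i' := hZ'.1.1.1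
  haveI : IsClosedImmersion j := hY'.1.1.1
  haveI := Conormal92.Affine.isQCoh_conormal j
  haveI := Conormal92.Affine.isQCoh_conormal i'
  haveI : ((Scheme.Modules.pullback i).obj (Omega.conormal j)).IsQuasicoherent :=
    QCoh.Pullback.isQCoh_pullback i _
  refine QCohChart.Basic.mono_of_charts ψ₁ fun z => ?_
  obtain ⟨U, hU, hxU, -⟩ :=
    exists_isAffineOpen_mem_and_subset (U := ⊤) (x := d (j (i z))) trivial
  obtain ⟨VY, hVY, hyV, hVYU⟩ :=
    exists_isAffineOpen_mem_and_subset (U := d ⁻¹ᵁ U) (x := j (i z)) hxU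
  have hz : i' z ∈ m ⁻¹ᵁ VY := by
    show (i' ≫ m) z ∈ VY
    rw [hm₁]
    exact hyV
  obtain ⟨V₀, hV₀, hzV₀, hV₀Y⟩ := exists_isAffineOpen_mem_and_subset hz
  obtain ⟨V', hV', hzV', eV, eW, N, g, π, r, hπs, hπB, hgen⟩ :=
    exists_presentation hm₁ hlci hVY hV₀ (fun x hx => hV₀Y hx) z hzV₀
  have eY : VY ≤ d ⁻¹ᵁ U := fun x hx => hVYU hx
  let W := i' ⁻¹ᵁ V'
  let WY := j ⁻¹ᵁ VY
  have hW : IsAffineOpen W := hV'.preimage i'
  have hWY : IsAffineOpen WY := hVY.preimage j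
  refine ⟨W, hW, hzV', ?_⟩
  -- algebras
  let qY := j.app VY
  have hqY : Function.Surjective qY.hom := j.app_surjective VY hVY
  let mh := m.appLE VY V' eV
  let iW := i.appLE WY W eW
  letI : Algebra Γ(Y', VY) Γ(Y, WY) := qY.hom.toAlgebra
  letI : Algebra Γ(Y, WY) Γ(Z, W) := iW.hom.toAlgebra
  letI : Algebra Γ(Y', VY) Γ(Z, W) := (iW.hom.comp qY.hom).toAlgebra
  haveI : IsScalarTower Γ(Y', VY) Γ(Y, WY) Γ(Z, W) := IsScalarTower.of_algebraMap_eq fun _ => rfl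
  let M := Γ(Omega.conormal j, WY)
  letI : Module Γ(Y', VY) M := Module.compHom _ qY.hom
  haveI : IsScalarTower Γ(Y', VY) Γ(Y, WY) M := IsScalarTower.of_algebraMap_smul fun _ _ => rfl
  have hch := Conormal92.Affine.isChart_of_closed j hVY
  have hch' := Conormal92.Affine.isChart_of_closed i' hV'
  let J := RingHom.ker (algebraMap Γ(Y', VY) Γ(Y, WY))
  have hkf : ∀ t : J, ∃ k, idealSect j.ker VY k = t.1 := fun t =>
    (Conormal92.Affine.exists_idealSect_iff hVY t.1).2 t.2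
  choose kf hkf using hkf
  let cl : J →ₗ[Γ(Y', VY)] M :=
    { toFun := fun t => conormalSect j VY (kf t)
      map_add' := fun t t' => by
        rw [show kf (t + t') = kf t + kf t' from Kaehler.Conormal.idealSect_injective j VY (by
          rw [map_add, hkf, hkf, hkf]; rfl), map_add]
      map_smul' := fun a t => by
        rw [show kf (a • t) = a • kf t from Kaehler.Conormal.idealSect_injective j VY (by
          rw [hkf, Kaehler.Conormal.idealSect_smul, hkf]; rfl), Kaehler.Conormal.conormalSect_smul]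
        rfl }
  let πA : Localization.Away g →ₐ[Γ(Y, WY)] Γ(Z, W) :=
    { toRingHom := π, commutes' := fun x => RingHom.congr_fun hπB x }
  obtain ⟨P', _, _, _, σ, τ, hσs, hτs, hτk, hπτ⟩ :=
    LiftExt.exists_lift (B' := Γ(Y', VY)) hqY g πA hπs
  have hJ : ∀ x y, algebraMap Γ(Y', VY) Γ(Y, WY) x = 0 → algebraMap Γ(Y', VY) Γ(Y, WY) y = 0 →
      x * y = 0 := fun x y hx hy => by
    have h0 := Retract.eq_zero_of_mul hY' hVY
    rw [pow_two] at h0
    exact Ideal.mem_bot.1 (h0 ▸ Ideal.mul_mem_mul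
      (show x ∈ RingHom.ker (j.app VY).hom from hx) (show y ∈ RingHom.ker (j.app VY).hom from hy))
  obtain ⟨Ct, _, ι, q, hqs, hqk, hqι, hinj⟩ :=
    LiftExt.exists_extension hqY hJ cl σ hσs τ hτs hτk π hπτ hgen
  let qc : CommRingCat.of Ct ⟶ Γ(Z, W) := CommRingCat.ofHom q
  let ιc : Γ(Y', VY) ⟶ CommRingCat.of Ct := CommRingCat.ofHom ι
  have hιq : ιc ≫ qc = qY ≫ iW := CommRingCat.hom_ext hqι
  have hmW : mh ≫ i'.appLE V' W le_rfl = qY ≫ iW := by
    rw [show qY = j.appLE VY WY le_rfl from Scheme.Hom.app_eq_appLE _]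
    simp only [mh, iW, Scheme.Hom.appLE_comp_appLE, hm₁]
  have ec : V' ≤ c ⁻¹ᵁ U := by
    rw [← hm₂]
    exact eV.trans (m.preimage_mono eY)
  have hc : c.appLE U V' ec = d.appLE U VY eY ≫ mh := by
    simp only [mh, Scheme.Hom.appLE_comp_appLE, hm₂]
  obtain ⟨φ, hφ₁, hφ₂⟩ := Retract.exists_chart_hom hZ' hU hV' ec hW le_rfl qc hqs hqk
    (d.appLE U VY eY ≫ ιc) (by rw [Category.assoc, hιq, hc, Category.assoc, hmW])
  have hφm : mh ≫ φ = ιc := by
    refine hom_unique hY' hU hVY eY (hW.fromSpec ≫ i) (qY ≫ iW) ?_ qc hqs hqk _ _ ?_ hιq ?_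
    · rw [Spec.map_comp, Category.assoc, show qY = j.appLE VY WY le_rfl from
        Scheme.Hom.app_eq_appLE _, IsAffineOpen.SpecMap_appLE_fromSpec j hVY hWY le_rfl,
        ← Category.assoc, IsAffineOpen.SpecMap_appLE_fromSpec i hWY hW eW]
    · rw [Category.assoc, hφ₁, hmW]
    · rw [← Category.assoc, ← hc, hφ₂]
  -- sections of the pulled back sheaf
  letI : Module Γ(Y, WY) Γ((Scheme.Modules.pullback i).obj (Omega.conormal j), W) :=
    Module.compHom _ iW.hom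
  haveI : IsScalarTower Γ(Y, WY) Γ(Z, W) Γ((Scheme.Modules.pullback i).obj (Omega.conormal j), W) :=
    IsScalarTower.of_algebraMap_smul fun _ _ => rfl
  have hb := CechRes.PullSec.isBaseChange_mu i (Omega.conormal j) hWY hW eW
  rw [injective_iff_map_eq_zero]
  intro y hy
  obtain ⟨x, rfl⟩ := hb.equiv.surjective y
  obtain ⟨k, s, t, rfl⟩ : ∃ (k : ℕ) (s : Fin k → Γ(Z, W)) (t : Fin k → M), x = ∑ l, s l ⊗ₜ t l :=
    TensorProduct.exists_sum_tmul_eq x
  choose kt hkt using fun l => (Conormal92.Affine.conormalSect_spec hch).1 (t l)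
  let yl : Fin k → J := fun l => ⟨idealSect j.ker VY (kt l),
    (Conormal92.Affine.exists_idealSect_iff hVY _).1 ⟨kt l, rfl⟩⟩
  have hcl : ∀ l, cl (yl l) = t l := fun l => by
    show conormalSect j VY (kf (yl l)) = _
    rw [← hkt l, Kaehler.Conormal.idealSect_injective j VY (hkf (yl l))]
  have hmem : ∀ l, mh (yl l).1 ∈ RingHom.ker (i'.app V').hom := fun l => by
    show i'.app V' (mh (yl l).1) = 0
    rw [Scheme.Hom.app_eq_appLE i']
    show (mh ≫ i'.appLE V' W le_rfl) (yl l).1 = 0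
    rw [hmW]
    show iW (qY (yl l).1) = 0
    rw [show qY (yl l).1 = 0 from (yl l).2, map_zero]
  choose k' hk' using fun l => (Conormal92.Affine.exists_idealSect_iff hV' _).2 (hmem l)
  choose s' hs' using fun l => i'.app_surjective V' hV' (s l)
  have himg : ∀ l, ψ₁.app W (hb.equiv (s l ⊗ₜ t l)) = conormalSect i' V' (s' l • k' l) := fun l => by
    rw [hb.equiv_tmul, Scheme.Modules.Hom.app_smul, Kaehler.Conormal.conormalSect_smul, hs']
    congr 1
    rw [← hkt l]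
    exact Conormal92.MapApp.app_mu hψ₁ eV eW (kt l) (k' l) (hk' l)
  rw [map_sum, map_sum, Finset.sum_congr rfl fun l _ => himg l, ← map_sum,
    (Conormal92.Affine.conormalSect_spec hch').2, Retract.eq_zero_of_mul hZ' hV'] at hy
  have hz0 : ∑ l, φ (s' l) * ι (yl l).1 = 0 := by
    have h1 := congrArg φ.hom (Ideal.mem_bot.1 hy)
    rw [map_zero, map_sum, map_sum] at h1
    refine Eq.trans (Finset.sum_congr rfl fun l _ => ?_) h1
    rw [Kaehler.Conormal.idealSect_smul, hk', map_mul]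
    exact congrArg (φ (s' l) * ·) (congr($hφm (yl l).1)).symm
  have h2 := hinj k (fun l => φ (s' l)) yl hz0
  rw [show (∑ l, s l ⊗ₜ[Γ(Y, WY)] t l) = 0 from Eq.trans (Finset.sum_congr rfl fun l _ => by
    rw [← hs' l, ← hcl l, Scheme.Hom.app_eq_appLE i']
    exact congrArg (· ⊗ₜ[Γ(Y, WY)] cl (yl l)) (congr($hφ₁ (s' l))).symm) h2, map_zero]

end Groth.Agent.Lib.UnivThickAff.LciInject
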