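import Groth.Agent.Lib.UnivThickAff.Basic
import Groth.Agent.Lib.Conormal92.Affine
import Mathlib.RingTheory.Extension.Basic
import Mathlib.RingTheory.Smooth.Basic

/-!
# The conormal module of a universal thickening is a retract of `I/I²`

For a universal first order thickening `Z ⊂ Z'` over `X`, affine opens `U`, `V`, `W = V ∩ Z` and a
formally smooth presentation `P → Γ(Z, W)` with kernel `I`, the sections of the conormal sheaf over
`W` are a direct summand of `I/I²`.
-/

set_option autoImplicit false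

universe u

open CategoryTheory CategoryTheory.Limits AlgebraicGeometry TopologicalSpace Opposite OmegaSh
open Groth.Agent.Lib

namespace Groth.Agent.Lib.UnivThickAff.Retract

variable {Z Z' X : Scheme.{u}} {h : Z ⟶ X} {i : Z ⟶ Z'} {h' : Z' ⟶ X}

/-- The lifting property of a universal thickening on affine opens. -/
theorem exists_chart_hom (hu : IsUnivThickening h i h') {U : X.Opens} (hU : IsAffineOpen U)
    {V : Z'.Opens} (hV : IsAffineOpen V) (e : V ≤ h' ⁻¹ᵁ U) {W : Z.Opens} (hW : IsAffineOpen W)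
    (e' : W ≤ i ⁻¹ᵁ V) {C : CommRingCat.{u}} (q : C ⟶ Γ(Z, W))
    (hq : Function.Surjective q.hom) (hk : ∀ x y, q.hom x = 0 → q.hom y = 0 → x * y = 0)
    (χ : Γ(X, U) ⟶ C) (hχ : χ ≫ q = h'.appLE U V e ≫ i.appLE V W e') :
    ∃ φ : Γ(Z', V) ⟶ C, φ ≫ q = i.appLE V W e' ∧ h'.appLE U V e ≫ φ = χ := by
  have hj := isFirstOrderThickening_specMap q hq hk
  have hcomm : Spec.map q ≫ Spec.map χ ≫ hU.fromSpec = hW.fromSpec ≫ h := by
    rw [← Category.assoc, ← Spec.map_comp, hχ, Spec.map_comp, Category.assoc,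
      IsAffineOpen.SpecMap_appLE_fromSpec h' hU hV e, ← Category.assoc,
      IsAffineOpen.SpecMap_appLE_fromSpec i hV hW e', Category.assoc, hu.2.1]
  obtain ⟨a', ⟨ha₁, ha₂⟩, -⟩ := hu.2.2 _ _ (Spec.map q) (Spec.map χ ≫ hU.fromSpec) hW.fromSpec hj hcomm
  have hr : Set.range a' ⊆ Set.range hV.fromSpec := by
    rintro _ ⟨t, rfl⟩
    obtain ⟨s, rfl⟩ := hj.1.2.surj t
    rw [← Scheme.Hom.comp_apply, ha₁, hV.range_fromSpec]
    exact e' (by rw [← SetLike.mem_coe, ← hW.range_fromSpec]; exact ⟨s, rfl⟩)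
  let a'' := IsOpenImmersion.lift hV.fromSpec a' hr
  have h1 : a'' ≫ hV.fromSpec = a' := IsOpenImmersion.lift_fac _ _ _
  refine ⟨Spec.preimage a'', Spec.map_injective ((cancel_mono hV.fromSpec).1 ?_),
    Spec.map_injective ((cancel_mono hU.fromSpec).1 ?_)⟩
  · rw [Spec.map_comp, Spec.map_preimage, Category.assoc, h1, ha₁,
      IsAffineOpen.SpecMap_appLE_fromSpec i hV hW e']
  · rw [Spec.map_comp, Spec.map_preimage, Category.assoc,
      IsAffineOpen.SpecMap_appLE_fromSpec h' hU hV e, ← Category.assoc, h1, ha₂]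

theorem eq_zero_of_mul (hu : IsUnivThickening h i h') {V : Z'.Opens} (hV : IsAffineOpen V) :
    RingHom.ker (i.app V).hom ^ 2 = ⊥ := by
  haveI : IsClosedImmersion i := hu.1.1.1
  have h1 := congrArg (fun J => J.ideal ⟨V, hV⟩) hu.1.2
  simp only [Scheme.IdealSheafData.ideal_mul, Pi.mul_apply, Scheme.Hom.ker_apply,
    Scheme.IdealSheafData.ideal_bot, Pi.bot_apply] at h1
  rw [pow_two]; exact h1

/-- The algebraic retraction. -/
theorem retract {A B B' : Type u} [CommRing A] [CommRing B] [CommRing B'] [Algebra A B]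
    (E : Algebra.Extension.{u} A B) (g : B' →+* B) (ρ : E.Ring →+* B')
    (φ : B' →+* E.Ring ⧸ E.ker ^ 2) (hρ : g.comp ρ = algebraMap E.Ring B)
    (hφ : ∀ a, Ideal.Quotient.lift (E.ker ^ 2) (algebraMap E.Ring B)
      (fun p hp => RingHom.mem_ker.1 (Ideal.pow_le_self two_ne_zero hp)) (φ a) = g a)
    (hρ2 : ∀ p ∈ E.ker ^ 2, ρ p = 0) (hid : ∀ a p, Ideal.Quotient.mk _ p = φ a → ρ p = a)
    {M : Type u} [AddCommGroup M] [Module B M] (cl : RingHom.ker g →+ M) (hcl : Function.Bijective cl)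
    (hsmul : ∀ (a : B') (t : RingHom.ker g), cl (a • t) = g a • cl t)
    [Module.Finite B E.Cotangent] [Module.Projective B E.Cotangent] :
    Module.Finite B M ∧ Module.Projective B M := by
  have hgρ : ∀ p, g (ρ p) = algebraMap E.Ring B p := fun p => congr($hρ p)
  have hmem : ∀ x : E.ker, ρ x.1 ∈ RingHom.ker g := fun x => by
    rw [RingHom.mem_ker, hgρ]; exact x.2
  let r₀ : E.ker →+ M := cl.comp (AddMonoidHom.mk' (fun x => (⟨ρ x.1, hmem x⟩ : RingHom.ker g))
    fun x y => Subtype.ext (map_add ρ x.1 y.1))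
  have hr₀ : ∀ x y : E.ker, Algebra.Extension.Cotangent.mk x = Algebra.Extension.Cotangent.mk y →
      r₀ x = r₀ y := fun x y hxy => by
    refine congrArg cl (Subtype.ext (sub_eq_zero.1 ?_))
    show ρ x.1 - ρ y.1 = 0
    rw [← map_sub]
    exact hρ2 _ ((Algebra.Extension.Cotangent.mk_eq_mk_iff_sub_mem _ _).1 hxy)
  choose pre hpre using Algebra.Extension.Cotangent.mk_surjective (P := E)
  have hsm : ∀ (b : B) (x : E.ker), b • Algebra.Extension.Cotangent.mk x =
      Algebra.Extension.Cotangent.mk (E.σ b • x) := fun b x => by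
    apply Algebra.Extension.Cotangent.ext
    rw [Algebra.Extension.Cotangent.val_smul, Algebra.Extension.Cotangent.val_mk,
      Algebra.Extension.Cotangent.val_mk, map_smul]
  have hb : ∀ b, g (ρ (E.σ b)) = b := fun b => by rw [hgρ, E.algebraMap_σ]
  let R : E.Cotangent →ₗ[B] M :=
    { toFun := fun c => r₀ (pre c)
      map_add' := fun c c' => by
        rw [← map_add]
        exact hr₀ _ _ (by rw [map_add, hpre, hpre, hpre])
      map_smul' := fun b c => by
        rw [hr₀ (pre (b • c)) (E.σ b • pre c) (by rw [← hsm, hpre, hpre])]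
        show cl _ = b • cl _
        rw [← hb b, ← hsmul, hb b]
        exact congrArg cl (Subtype.ext (map_mul ρ _ _)) }
  have hlift : ∀ t : RingHom.ker g, ∃ x : E.ker, Ideal.Quotient.mk _ x.1 = φ t.1 := fun t => by
    obtain ⟨p, hp⟩ := Ideal.Quotient.mk_surjective (φ t.1)
    have h2 := hφ t.1
    rw [← hp, RingHom.mem_ker.1 t.2] at h2
    exact ⟨⟨p, h2⟩, hp⟩
  choose lft hlft using hlift
  obtain ⟨inv, hinv⟩ := hcl.2.hasRightInverse
  have hinv' : ∀ t, inv (cl t) = t := fun t => hcl.1 (hinv _)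
  let S : M →ₗ[B] E.Cotangent :=
    { toFun := fun m => Algebra.Extension.Cotangent.mk (lft (inv m))
      map_add' := fun m m' => by
        rw [← map_add]
        refine (Algebra.Extension.Cotangent.mk_eq_mk_iff_sub_mem _ _).2 (Ideal.Quotient.eq.1 ?_)
        rw [hlft, Submodule.coe_add, map_add, hlft, hlft, ← map_add]
        congr 1
        rw [← Submodule.coe_add]
        exact congrArg Subtype.val (hcl.1 (by rw [hinv, map_add, hinv, hinv]))
      map_smul' := fun b m => by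
        rw [RingHom.id_apply, hsm]
        refine (Algebra.Extension.Cotangent.mk_eq_mk_iff_sub_mem _ _).2 ?_
        have e : inv (b • m) = ρ (E.σ b) • inv m := hcl.1 (by rw [hinv, hsmul, hb, hinv])
        obtain ⟨p, hp⟩ := Ideal.Quotient.mk_surjective (φ (ρ (E.σ b)))
        have hpI : p - E.σ b ∈ E.ker := by
          have h3 := hφ (ρ (E.σ b))
          rw [← hp, hb] at h3
          show algebraMap E.Ring B (p - E.σ b) = 0
          rw [map_sub, E.algebraMap_σ, sub_eq_zero]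
          exact h3
        have key : Ideal.Quotient.mk (E.ker ^ 2) (lft (inv (b • m))).1 =
            Ideal.Quotient.mk (E.ker ^ 2) (p * (lft (inv m)).1) := by
          rw [map_mul, hlft, hlft, hp, ← map_mul, e]
          rfl
        refine Ideal.Quotient.eq.1 (key.trans (Ideal.Quotient.eq.2 ?_))
        rw [Submodule.coe_smul, smul_eq_mul, ← sub_mul, pow_two]
        exact Ideal.mul_mem_mul hpI (lft (inv m)).2 }
  have hRS : R ∘ₗ S = LinearMap.id := LinearMap.ext fun m => by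
    show r₀ (pre (Algebra.Extension.Cotangent.mk (lft (inv m)))) = m
    rw [hr₀ _ (lft (inv m)) (hpre _)]
    refine Eq.trans ?_ (hinv m)
    exact congrArg cl (Subtype.ext (hid _ _ (hlft _)))
  exact ⟨Module.Finite.of_surjective R fun m => ⟨S m, congr($hRS m)⟩, Module.Projective.of_split S R hRS⟩

theorem finite_projective (hu : IsUnivThickening h i h') {U : X.Opens} (hU : IsAffineOpen U)
    {V : Z'.Opens} (hV : IsAffineOpen V) (e : V ≤ h' ⁻¹ᵁ U)
    (E : letI := (h'.appLE U V e ≫ i.app V).hom.toAlgebra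
      Algebra.Extension.{u} Γ(X, U) Γ(Z, i ⁻¹ᵁ V))
    (hfs : letI := (h'.appLE U V e ≫ i.app V).hom.toAlgebra
      Algebra.FormallySmooth Γ(X, U) E.Ring)
    (hfp : letI := (h'.appLE U V e ≫ i.app V).hom.toAlgebra
      Module.Finite Γ(Z, i ⁻¹ᵁ V) E.Cotangent ∧ Module.Projective Γ(Z, i ⁻¹ᵁ V) E.Cotangent) :
    Module.Finite Γ(Z, i ⁻¹ᵁ V) Γ(Omega.conormal i, i ⁻¹ᵁ V) ∧
      Module.Projective Γ(Z, i ⁻¹ᵁ V) Γ(Omega.conormal i, i ⁻¹ᵁ V) := by
  letI : Algebra Γ(X, U) Γ(Z, i ⁻¹ᵁ V) := (h'.appLE U V e ≫ i.app V).hom.toAlgebra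
  letI : Algebra Γ(X, U) Γ(Z', V) := (h'.appLE U V e).hom.toAlgebra
  haveI : IsClosedImmersion i := hu.1.1.1
  haveI := hfs
  haveI := hfp.1
  haveI := hfp.2
  have hch : Conormal92.Affine.IsChart i V := Conormal92.Affine.isChart_of_closed i hV
  have hsq := eq_zero_of_mul hu hV
  let K := RingHom.ker (i.app V).hom
  have hmul : ∀ x y, i.app V x = 0 → i.app V y = 0 → x * y = 0 := fun x y hx hy => by
    have := Ideal.mul_mem_mul (I := K) (J := K) hx hy
    rw [← pow_two, hsq] at this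
    exact this
  let I := E.ker
  let qA : Γ(Z', V) →ₐ[Γ(X, U)] Γ(Z, i ⁻¹ᵁ V) := { toRingHom := (i.app V).hom, commutes' := fun _ => rfl }
  have hqA : Function.Surjective qA := hch.surj
  let ρ : E.Ring →ₐ[Γ(X, U)] Γ(Z', V) := Algebra.FormallySmooth.liftOfSurjective
    (IsScalarTower.toAlgHom Γ(X, U) E.Ring Γ(Z, i ⁻¹ᵁ V)) qA hqA ⟨2, hsq⟩
  have hρ : ∀ p, i.app V (ρ p) = algebraMap E.Ring Γ(Z, i ⁻¹ᵁ V) p := fun p =>
    AlgHom.congr_fun (Algebra.FormallySmooth.comp_liftOfSurjective _ _ hqA ⟨2, hsq⟩) p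
  let π₂ : E.Ring ⧸ I ^ 2 →+* Γ(Z, i ⁻¹ᵁ V) := Ideal.Quotient.lift (I ^ 2) (algebraMap E.Ring _)
    fun p hp => RingHom.mem_ker.1 (Ideal.pow_le_self two_ne_zero hp)
  let q₂ : CommRingCat.of (E.Ring ⧸ I ^ 2) ⟶ Γ(Z, i ⁻¹ᵁ V) := CommRingCat.ofHom π₂
  have hq₂ : Function.Surjective q₂.hom := fun b => by
    obtain ⟨p, rfl⟩ := E.algebraMap_surjective b
    exact ⟨Ideal.Quotient.mk _ p, rfl⟩
  have hk₂ : ∀ x y, q₂.hom x = 0 → q₂.hom y = 0 → x * y = 0 := fun x y hx hy => by
    obtain ⟨p, rfl⟩ := Ideal.Quotient.mk_surjective x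
    obtain ⟨p', rfl⟩ := Ideal.Quotient.mk_surjective y
    rw [← map_mul, Ideal.Quotient.eq_zero_iff_mem, pow_two]
    exact Ideal.mul_mem_mul hx hy
  obtain ⟨φ, hφ₁, hφ₂⟩ := exists_chart_hom hu hU hV e hch.affine_preimage le_rfl q₂ hq₂ hk₂
    (CommRingCat.ofHom ((Ideal.Quotient.mk (I ^ 2)).comp (algebraMap Γ(X, U) E.Ring))) (by
      ext a
      show algebraMap E.Ring Γ(Z, i ⁻¹ᵁ V) (algebraMap Γ(X, U) E.Ring a) = _
      rw [← IsScalarTower.algebraMap_apply, ← Scheme.Hom.app_eq_appLE]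
      rfl)
  have hu₁ : ∀ a, π₂ (φ a) = i.app V a := fun a => by
    refine (congr($hφ₁ a) : _).trans ?_
    exact congr($(Scheme.Hom.app_eq_appLE (f := i) (U := V)) a).symm
  let ρ₂ : E.Ring ⧸ I ^ 2 →+* Γ(Z', V) := Ideal.Quotient.lift (I ^ 2) ρ.toRingHom fun p hp => by
    have h1 : ρ p ∈ K ^ 2 := by
      have : I.map ρ.toRingHom ≤ K := Ideal.map_le_iff_le_comap.2 fun a ha => by
        show i.app V (ρ a) = 0
        rw [hρ]; exact ha
      refine Ideal.pow_right_mono this 2 ?_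
      rw [← Ideal.map_pow]
      exact Ideal.mem_map_of_mem _ hp
    rw [hsq] at h1
    exact h1
  have hid : ∀ a, ρ₂ (φ a) = a := by
    have h0 := chart_hom_unique hu hU hV e hch.affine_preimage le_rfl (C := Γ(Z', V)) (i.app V)
      hch.surj hmul (φ ≫ CommRingCat.ofHom ρ₂) (𝟙 _) ?_ ?_ ?_
    · exact fun a => congr($h0 a)
    · rw [← Scheme.Hom.app_eq_appLE]
      ext a
      obtain ⟨p, hp⟩ := Ideal.Quotient.mk_surjective (φ a)
      show i.app V (ρ₂ (φ a)) = i.app V a
      rw [← hu₁ a, ← hp]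
      exact hρ p
    · rw [← Scheme.Hom.app_eq_appLE, Category.id_comp]
    · rw [Category.comp_id, ← Category.assoc, hφ₂]
      ext a
      exact ρ.commutes a
  let K' : Ideal Γ(Z', V) := RingHom.ker (i.app V).hom
  have hmem : ∀ k, idealSect i.ker V k ∈ K' := fun k =>
    (Conormal92.Affine.exists_idealSect_iff hV _).1 ⟨k, rfl⟩
  have hK : ∀ t : K', ∃ k, idealSect i.ker V k = t.1 := fun t =>
    (Conormal92.Affine.exists_idealSect_iff hV t.1).2 t.2
  choose kf hkf using hK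
  let cl : K' →+ Γ(Omega.conormal i, i ⁻¹ᵁ V) := AddMonoidHom.mk' (fun t => conormalSect i V (kf t))
    fun t t' => by
      rw [← map_add]
      congr 1
      apply Kaehler.Conormal.idealSect_injective
      rw [map_add, hkf, hkf, hkf]
      rfl
  refine retract E (i.app V).hom ρ.toRingHom φ.hom (RingHom.ext hρ) hu₁
    (fun p hp => ?_) (fun a p hp => ?_) cl ⟨fun t t' htt => ?_, fun m => ?_⟩ (fun a t => ?_)
  · have h2 : ρ₂ (Ideal.Quotient.mk (I ^ 2) p) = 0 := by
      rw [Ideal.Quotient.eq_zero_iff_mem.2 hp, map_zero]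
    exact h2
  · have h2 := hid a
    rw [← hp] at h2
    exact h2
  · have h2 := (Conormal92.Affine.conormalSect_eq_iff hch (kf t) (kf t')).1 htt
    rw [hsq, hkf, hkf] at h2
    exact Subtype.ext (sub_eq_zero.1 h2)
  · obtain ⟨k, rfl⟩ := (Conormal92.Affine.conormalSect_spec hch).1 m
    refine ⟨⟨idealSect i.ker V k, hmem k⟩, ?_⟩
    exact congrArg _ (Kaehler.Conormal.idealSect_injective i V (hkf _))
  · show conormalSect i V (kf (a • t)) = _
    rw [show kf (a • t) = a • kf t from Kaehler.Conormal.idealSect_injective i V (by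
      rw [hkf, Kaehler.Conormal.idealSect_smul, hkf]; rfl), Kaehler.Conormal.conormalSect_smul]
    rfl

end Groth.Agent.Lib.UnivThickAff.Retract
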