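import Groth.Agent.Lib.UnivThickAff.Transitivity
import Groth.Agent.Lib.Conormal92.OmegaSect
import Groth.Agent.Lib.QCohChart.Retraction
import Groth.Agent.Lib.Kaehler.FSmooth
import Groth.Agent.Lib.Kaehler.Finite

/-!
# Conormal sheaves of universal thickenings along a formally smooth morphism
-/

set_option autoImplicit false

universe u

open CategoryTheory CategoryTheory.Limits AlgebraicGeometry TopologicalSpace Opposite OmegaSh
open Groth.Agent.Lib
open scoped TensorProduct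

namespace Groth.Agent.Lib.UnivThickAff.SmoothSplit

/-- For a ring retraction `s ∘ κ = id` with square-zero kernel inside a square-zero ideal, a
differential vanishing modulo that ideal forces the element into the image of `κ`. -/
theorem eq_of_D_mem {B'' B' : Type u} [CommRing B''] [CommRing B'] [Algebra B'' B'] (s : B' →+* B'')
    (hs : ∀ x, s (algebraMap B'' B' x) = x) (K : Ideal B')
    (hK : ∀ b, b - algebraMap B'' B' (s b) ∈ K) (hK2 : ∀ x ∈ K, ∀ y ∈ K, x * y = 0) (x : B')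
    (hx : KaehlerDifferential.D B'' B' x ∈ K • (⊤ : Submodule B' Ω[B'⁄B''])) :
    x = algebraMap B'' B' (s x) := by
  let D : Derivation B'' B' B' := Derivation.mk'
    { toFun := fun b => b - algebraMap B'' B' (s b)
      map_add' := fun a b => by rw [map_add, map_add]; ring
      map_smul' := fun r b => by
        rw [RingHom.id_apply, Algebra.smul_def, Algebra.smul_def, map_mul, hs, map_mul]
        ring }
    fun a b => by
      show a * b - algebraMap B'' B' (s (a * b)) = a • (b - algebraMap B'' B' (s b)) +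
        b • (a - algebraMap B'' B' (s a))
      have h := hK2 _ (hK a) _ (hK b)
      rw [smul_eq_mul, smul_eq_mul, map_mul, map_mul]
      linear_combination -h
  let L : Ω[B'⁄B''] →ₗ[B'] B' := D.liftKaehlerDifferential
  have hL : ∀ b, L (KaehlerDifferential.D B'' B' b) = b - algebraMap B'' B' (s b) := fun b =>
    D.liftKaehlerDifferential_comp_D b
  have hLK : ∀ ω, L ω ∈ K := fun ω => by
    have hsp : ω ∈ Submodule.span B' (Set.range (KaehlerDifferential.D B'' B')) := by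
      rw [KaehlerDifferential.span_range_derivation]; exact Submodule.mem_top
    induction hsp using Submodule.span_induction with
    | mem v hv => obtain ⟨b, rfl⟩ := hv; rw [hL]; exact hK b
    | zero => rw [map_zero]; exact zero_mem _
    | add v w _ _ hv hw => rw [map_add]; exact add_mem hv hw
    | smul r v _ hv => rw [map_smul]; exact Ideal.mul_mem_left _ r hv
  have h0 : L (KaehlerDifferential.D B'' B' x) = 0 := by
    refine Submodule.smul_induction_on hx (fun a ha ω _ => ?_) (fun a b ha hb => ?_)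
    · rw [map_smul, smul_eq_mul]; exact hK2 a ha _ (hLK ω)
    · rw [map_add, ha, hb, add_zero]
  rw [hL] at h0
  exact sub_eq_zero.1 h0

variable {Z X Y Z' Z'' : Scheme.{u}} {i : Z ⟶ X} {p : X ⟶ Y} {i' : Z ⟶ Z'} {a : Z' ⟶ X}
  {b : Z'' ⟶ Y} {k : Z' ⟶ Z''}

/-- Compatible charts around a point. -/
theorem exists_charts (hZ' : IsUnivThickening i i' a)
    (hZ'' : IsUnivThickening (i ≫ p) (i' ≫ k) b) (hk₂ : k ≫ b = a ≫ p) (z : Z) :
    ∃ (Y₀ : Y.Opens) (_ : IsAffineOpen Y₀) (X₀ : X.Opens) (_ : IsAffineOpen X₀)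
      (_ : X₀ ≤ p ⁻¹ᵁ Y₀) (V : Z''.Opens), IsAffineOpen V ∧ IsAffineOpen (k ⁻¹ᵁ V) ∧
        k ⁻¹ᵁ V ≤ a ⁻¹ᵁ X₀ ∧ V ≤ b ⁻¹ᵁ Y₀ ∧ z ∈ (i' ≫ k) ⁻¹ᵁ V := by
  haveI : IsClosedImmersion i' := hZ'.1.1.1
  haveI : IsClosedImmersion (i' ≫ k) := hZ''.1.1.1
  obtain ⟨Y₀, hY₀, hy, -⟩ :=
    exists_isAffineOpen_mem_and_subset (U := ⊤) (x := p (a (i' z))) trivial
  obtain ⟨X₀, hX₀, hx, hXY⟩ :=
    exists_isAffineOpen_mem_and_subset (U := p ⁻¹ᵁ Y₀) (x := a (i' z)) hy
  obtain ⟨O, hO, hOW⟩ := (i' ≫ k).isClosedEmbedding.isInducing.isOpen_iff.1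
    (i' ⁻¹ᵁ (a ⁻¹ᵁ X₀)).2
  have hzO : (i' ≫ k) z ∈ (⟨O, hO⟩ : Z''.Opens) :=
    hOW.ge (show z ∈ i' ⁻¹ᵁ (a ⁻¹ᵁ X₀) from hx)
  obtain ⟨V, hV, hzV, hVO⟩ := exists_isAffineOpen_mem_and_subset hzO
  have hVa : k ⁻¹ᵁ V ≤ a ⁻¹ᵁ X₀ := fun y hy => by
    obtain ⟨w, rfl⟩ := hZ'.1.1.2.surj y
    exact hOW.le (hVO hy)
  have hVb : V ≤ b ⁻¹ᵁ Y₀ := fun y hy => by
    obtain ⟨w, rfl⟩ := hZ''.1.1.2.surj y
    show ((i' ≫ k) ≫ b) w ∈ Y₀
    rw [Category.assoc, hk₂]
    exact hXY (hVa (show i' w ∈ k ⁻¹ᵁ V from hy))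
  exact ⟨Y₀, hY₀, X₀, hX₀, fun y hy => hXY hy, V, hV,
    Transitivity.isAffineOpen_of_preimage hZ'.1 (hV.preimage (i' ≫ k)), hVa, hVb, hzV⟩

/-- On charts, the thickening over `Y` is a retract of the thickening over `X`. -/
theorem exists_retraction (hp : MoreMor.IsFormallySmoothHom p) (hZ' : IsUnivThickening i i' a)
    (hZ'' : IsUnivThickening (i ≫ p) (i' ≫ k) b) (hk₂ : k ≫ b = a ≫ p) {Y₀ : Y.Opens}
    (hY₀ : IsAffineOpen Y₀) {X₀ : X.Opens} (hX₀ : IsAffineOpen X₀) (eX : X₀ ≤ p ⁻¹ᵁ Y₀)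
    {V : Z''.Opens} (hV : IsAffineOpen V) (hV' : IsAffineOpen (k ⁻¹ᵁ V))
    (ea : k ⁻¹ᵁ V ≤ a ⁻¹ᵁ X₀) (eb : V ≤ b ⁻¹ᵁ Y₀) :
    ∃ s : Γ(Z', k ⁻¹ᵁ V) ⟶ Γ(Z'', V),
      k.app V ≫ s = 𝟙 _ ∧ s ≫ (i' ≫ k).app V = i'.app (k ⁻¹ᵁ V) := by
  haveI : IsClosedImmersion (i' ≫ k) := hZ''.1.1.1
  let W := i' ⁻¹ᵁ (k ⁻¹ᵁ V)
  have hW : IsAffineOpen W := hV.preimage (i' ≫ k)
  let q'' : Γ(Z'', V) ⟶ Γ(Z, W) := (i' ≫ k).app V
  have hq''s : Function.Surjective q''.hom := (i' ≫ k).app_surjective V hV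
  have hsq'' := Retract.eq_zero_of_mul hZ'' hV
  have hk'' : ∀ x y, q''.hom x = 0 → q''.hom y = 0 → x * y = 0 := fun x y hx hy => by
    rw [pow_two] at hsq''
    exact Ideal.mem_bot.1 (hsq'' ▸ Ideal.mul_mem_mul
      (show x ∈ RingHom.ker q''.hom from hx) (show y ∈ RingHom.ker q''.hom from hy))
  let ah := a.appLE X₀ (k ⁻¹ᵁ V) ea
  let bh := b.appLE Y₀ V eb
  let ph := p.appLE Y₀ X₀ eX
  let q' := i'.app (k ⁻¹ᵁ V)
  letI : Algebra Γ(Y, Y₀) Γ(X, X₀) := ph.hom.toAlgebra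
  letI : Algebra Γ(Y, Y₀) Γ(Z'', V) := bh.hom.toAlgebra
  letI : Algebra Γ(Y, Y₀) Γ(Z, W) := (bh ≫ q'').hom.toAlgebra
  haveI : Algebra.FormallySmooth Γ(Y, Y₀) Γ(X, X₀) :=
    Kaehler.FSmooth.formallySmooth_appLE hp hY₀ hX₀ eX
  have hcomm : ph ≫ ah ≫ q' = bh ≫ q'' := by
    have h1 : bh ≫ k.app V = ph ≫ ah := by
      simp only [ph, ah, bh, Scheme.Hom.app_eq_appLE, Scheme.Hom.appLE_comp_appLE, hk₂]
    have h2 : q'' = k.app V ≫ q' := Scheme.Hom.comp_app i' k V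
    rw [h2, ← Category.assoc, ← Category.assoc, h1]
  let qR : Γ(X, X₀) →ₐ[Γ(Y, Y₀)] Γ(Z, W) :=
    { toRingHom := (ah ≫ q').hom, commutes' := fun r => congr($hcomm r) }
  let qA : Γ(Z'', V) →ₐ[Γ(Y, Y₀)] Γ(Z, W) := { toRingHom := q''.hom, commutes' := fun _ => rfl }
  let θ := Algebra.FormallySmooth.liftOfSurjective qR qA hq''s ⟨2, hsq''⟩
  have hθq : CommRingCat.ofHom θ.toRingHom ≫ q'' = ah ≫ q' :=
    CommRingCat.hom_ext (congrArg AlgHom.toRingHom
      (Algebra.FormallySmooth.comp_liftOfSurjective qR qA hq''s ⟨2, hsq''⟩))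
  obtain ⟨s, hs₁, hs₂⟩ := Retract.exists_chart_hom hZ' hX₀ hV' ea hW le_rfl q'' hq''s hk''
    (CommRingCat.ofHom θ.toRingHom) (by rw [hθq]; simp only [ah, q', Scheme.Hom.app_eq_appLE]; rfl)
  replace hs₁ : s ≫ q'' = q' := hs₁.trans (Scheme.Hom.app_eq_appLE _).symm
  refine ⟨s, ?_, hs₁⟩
  refine chart_hom_unique hZ'' hY₀ hV eb hW le_rfl q'' hq''s hk'' _ _ ?_ ?_ ?_
  · rw [Category.assoc, hs₁]
    exact (Scheme.Hom.app_eq_appLE (f := i' ≫ k) (U := V))
  · rw [Category.id_comp]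
    exact (Scheme.Hom.app_eq_appLE (f := i' ≫ k) (U := V))
  · have h1 : bh ≫ k.app V = ph ≫ ah := by
      simp only [ph, ah, bh, Scheme.Hom.app_eq_appLE, Scheme.Hom.appLE_comp_appLE, hk₂]
    rw [Category.comp_id, ← Category.assoc, h1, Category.assoc, hs₂]
    exact CommRingCat.hom_ext (RingHom.ext fun r => θ.commutes r)

variable {Ω : Z'.Modules} {d : Der k Ω}
  {ψ : (Scheme.Modules.pullback (𝟙 Z)).obj (Omega.conormal (i' ≫ k)) ⟶ Omega.conormal i'}
  {φ : Omega.conormal i' ⟶ (Scheme.Modules.pullback i').obj Ω}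

theorem bar_app [QuasiCompact i'] (hψ : IsConormalMap i' (i' ≫ k) k (𝟙 Z) ψ) (V : Z''.Opens)
    (t : Γ(ClSub.idealMod (i' ≫ k).ker, V)) :
    ψ.app ((i' ≫ k) ⁻¹ᵁ V) (pullSect (𝟙 Z) _ ((i' ≫ k) ⁻¹ᵁ V) (conormalSect (i' ≫ k) V t)) =
      conormalSect i' (k ⁻¹ᵁ V) (Kaehler.Conormal.liftSect hψ.1 V t) :=
  (Kaehler.Conormal.app_eq hψ V t).trans (congr($((Omega.conormal i').presheaf.map_id _) _))

theorem comp_eq_zero [QuasiCompact i'] (hψ : IsConormalMap i' (i' ≫ k) k (𝟙 Z) ψ)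
    (hφ : IsConormalDiff i' d φ) : ψ ≫ φ = 0 := by
  refine Kaehler.Conormal.pullback_conormal_hom_ext (i' ≫ k) (𝟙 Z) fun V t => ?_
  change φ.app _ (ψ.app ((i' ≫ k) ⁻¹ᵁ V) _) = 0
  erw [bar_app hψ, hφ (k ⁻¹ᵁ V), Kaehler.Conormal.idealSect_liftSect, Kaehler.Basic.der_app_app d,
    map_zero]
  rfl

/-- The statement on a chart. -/
theorem chart (hp : MoreMor.IsFormallySmoothHom p) (hZ' : IsUnivThickening i i' a)
    (hZ'' : IsUnivThickening (i ≫ p) (i' ≫ k) b) (hk₂ : k ≫ b = a ≫ p) (hd : IsUniversal d)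
    (hψ : IsConormalMap i' (i' ≫ k) k (𝟙 Z) ψ) (hφ : IsConormalDiff i' d φ) (z : Z) :
    ∃ W : Z.Opens, IsAffineOpen W ∧ z ∈ W ∧ Function.Injective (ψ.app W) ∧
      (∀ t, φ.app W t = 0 → ∃ w, ψ.app W w = t) ∧ Function.Surjective (φ.app W) ∧
      ∃ r : Γ(Omega.conormal i', W) →ₗ[Γ(Z, W)]
          Γ((Scheme.Modules.pullback (𝟙 Z)).obj (Omega.conormal (i' ≫ k)), W),
        ∀ x, r (ψ.app W x) = x := by
  haveI : IsClosedImmersion i' := hZ'.1.1.1
  haveI : IsClosedImmersion (i' ≫ k) := hZ''.1.1.1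
  haveI : Ω.IsQuasicoherent := Kaehler.Finite.isQuasicoherent hd
  obtain ⟨Y₀, hY₀, X₀, hX₀, eX, V, hV, hV', ea, eb, hzV⟩ := exists_charts hZ' hZ'' hk₂ z
  obtain ⟨s, hks, hsq⟩ := exists_retraction hp hZ' hZ'' hk₂ hY₀ hX₀ eX hV hV' ea eb
  let W := i' ⁻¹ᵁ (k ⁻¹ᵁ V)
  let V' := k ⁻¹ᵁ V
  have hch'' := Conormal92.Affine.isChart_of_closed (i' ≫ k) hV
  have hch' := Conormal92.Affine.isChart_of_closed i' hV'
  have hs0 : ∀ x, s (k.app V x) = x := fun x => congr($hks x)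
  have hsq0 : ∀ x, (i' ≫ k).app V (s x) = i'.app V' x := fun x => congr($hsq x)
  let K := RingHom.ker (i'.app V').hom
  have hK2 : ∀ x ∈ K, ∀ y ∈ K, x * y = 0 := fun x hx y hy => by
    have h0 := Retract.eq_zero_of_mul hZ' hV'
    rw [pow_two] at h0
    exact Ideal.mem_bot.1 (h0 ▸ Ideal.mul_mem_mul hx hy)
  have hK : ∀ b, b - k.app V (s b) ∈ K := fun b => by
    show i'.app V' (b - k.app V (s b)) = 0
    rw [map_sub, sub_eq_zero, ← hsq0 b]
    rfl
  -- sections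
  have hcl' : ∀ t t', conormalSect i' V' t = conormalSect i' V' t' → t = t' := fun t t' h => by
    rw [Conormal92.Affine.conormalSect_eq_iff hch', Retract.eq_zero_of_mul hZ' hV', Ideal.mem_bot,
      sub_eq_zero] at h
    exact Kaehler.Conormal.idealSect_injective i' V' h
  let ps : Γ(Omega.conormal (i' ≫ k), W) →+
      Γ((Scheme.Modules.pullback (𝟙 Z)).obj (Omega.conormal (i' ≫ k)), W) :=
    (pullSect (𝟙 Z) (Omega.conormal (i' ≫ k)) W).hom
  have hps : ∀ y, ps y =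
      ((Scheme.Modules.pullbackId Z).inv.app (Omega.conormal (i' ≫ k))).app W y := fun y =>
    (Kaehler.Seq.pullbackId_inv_app _ W y).symm
  have hpsb : Function.Bijective ps := by
    rw [show (⇑ps) = _ from funext hps]
    exact ConcreteCategory.bijective_of_isIso
      (((Scheme.Modules.pullbackId Z).inv.app (Omega.conormal (i' ≫ k))).app W)
  have hψcl : ∀ t, ψ.app W (ps (conormalSect (i' ≫ k) V t)) =
      conormalSect i' V' (Kaehler.Conormal.liftSect hψ.1 V t) := bar_app hψ V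
  have hkmem : ∀ t : Γ(ClSub.idealMod i'.ker, V'), ∃ t'' : Γ(ClSub.idealMod (i' ≫ k).ker, V),
      idealSect (i' ≫ k).ker V t'' = s (idealSect i'.ker V' t) := fun t =>
    (Conormal92.Affine.exists_idealSect_iff hV _).2 (by
      show (i' ≫ k).app V (s (idealSect i'.ker V' t)) = 0
      rw [hsq0, Kaehler.Descend.app_idealSect]
      rfl)
  choose sd hsd using hkmem
  have hlift : ∀ t, sd (Kaehler.Conormal.liftSect hψ.1 V t) = t := fun t => by
    apply Kaehler.Conormal.idealSect_injective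
    rw [hsd, Kaehler.Conormal.idealSect_liftSect]
    exact hs0 _
  -- differentials
  obtain ⟨E, hE⟩ := Conormal92.OmegaSect.exists_equiv k hV' hV le_rfl hd
  letI : Algebra Γ(Z'', V) Γ(Z', V') := (k.appLE V V' le_rfl).hom.toAlgebra
  have hkapp : algebraMap Γ(Z'', V) Γ(Z', V') = (k.app V).hom := by
    show (k.appLE V V' le_rfl).hom = _
    rw [← Scheme.Hom.app_eq_appLE]
  letI : Algebra Γ(Z', V') Γ(Z, W) := (i'.appLE V' W le_rfl).hom.toAlgebra
  letI : Module Γ(Z', V') Γ((Scheme.Modules.pullback i').obj Ω, W) :=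
    Module.compHom _ (i'.appLE V' W le_rfl).hom
  haveI : IsScalarTower Γ(Z', V') Γ(Z, W) Γ((Scheme.Modules.pullback i').obj Ω, W) :=
    IsScalarTower.of_algebraMap_smul fun _ _ => rfl
  have hb := CechRes.PullSec.isBaseChange_mu i' Ω hV' (hV'.preimage i') (U := W) le_rfl
  have halg : algebraMap Γ(Z', V') Γ(Z, W) = (i'.app V').hom := by
    show (i'.appLE V' W le_rfl).hom = _
    exact congrArg CommRingCat.Hom.hom (Scheme.Hom.app_eq_appLE (f := i') (U := V')).symm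
  have hsur : Function.Surjective (algebraMap Γ(Z', V') Γ(Z, W)) := by
    rw [halg]; exact hch'.surj
  let E' : Γ(Ω, V') ≃ₗ[Γ(Z', V')] Ω[Γ(Z', V')⁄Γ(Z'', V)] :=
    { toFun := fun y => E y, invFun := fun y => E.symm y
      map_add' := map_add E, map_smul' := map_smul E
      left_inv := E.symm_apply_apply, right_inv := E.apply_symm_apply }
  have hE' : ∀ b, E' (d.app V' b) = KaehlerDifferential.D Γ(Z'', V) Γ(Z', V') b := hE
  obtain ⟨h1t, h0t⟩ := Conormal92.Affine.one_tmul_spec hsur (M := Γ(Ω, V'))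
  have hmu : ∀ y : Γ(Ω, V'), hb.equiv (1 ⊗ₜ y) = pullSect i' Ω V' y := fun y => by
    rw [hb.equiv_tmul, one_smul]
    show ((Scheme.Modules.pullback i').obj Ω).presheaf.map (homOfLE le_rfl).op (pullSect i' Ω V' y) = _
    exact congr($(((Scheme.Modules.pullback i').obj Ω).presheaf.map_id _) _)
  refine ⟨W, hV.preimage (i' ≫ k), hzV, ?_, ?_, ?_, ?_⟩
  · intro x x' hxx
    obtain ⟨y, rfl⟩ := hpsb.2 x
    obtain ⟨y', rfl⟩ := hpsb.2 x'
    obtain ⟨t, rfl⟩ := (Conormal92.Affine.conormalSect_spec hch'').1 y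
    obtain ⟨t', rfl⟩ := (Conormal92.Affine.conormalSect_spec hch'').1 y'
    rw [hψcl, hψcl] at hxx
    rw [← hlift t, ← hlift t', hcl' _ _ hxx]
  · intro y hy
    obtain ⟨t, rfl⟩ := (Conormal92.Affine.conormalSect_spec hch').1 y
    erw [hφ V' t, ← hmu, LinearEquiv.map_eq_zero_iff, h0t] at hy
    rw [halg] at hy
    have hmem : E' (d.app V' (idealSect i'.ker V' t)) ∈
        K • (⊤ : Submodule Γ(Z', V') Ω[Γ(Z', V')⁄Γ(Z'', V)]) := by
      have := Submodule.mem_map_of_mem (f := E'.toLinearMap) hy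
      rw [Submodule.map_smul'', Submodule.map_top, LinearEquiv.range] at this
      exact this
    rw [hE'] at hmem
    have hx := eq_of_D_mem s.hom (fun x => by rw [hkapp]; exact hs0 x) K
      (fun b => by rw [hkapp]; exact hK b) hK2 (idealSect i'.ker V' t) hmem
    rw [hkapp] at hx
    refine ⟨ps (conormalSect (i' ≫ k) V (sd t)), (hψcl _).trans (congrArg _ ?_)⟩
    apply Kaehler.Conormal.idealSect_injective
    rw [Kaehler.Conormal.idealSect_liftSect, hsd]
    exact hx.symm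
  · intro y
    obtain ⟨x, rfl⟩ := hb.equiv.surjective y
    obtain ⟨ω, rfl⟩ := h1t x
    obtain ⟨ω', rfl⟩ := E'.symm.surjective ω
    have hsp : ω' ∈ Submodule.span Γ(Z', V')
        (Set.range (KaehlerDifferential.D Γ(Z'', V) Γ(Z', V'))) := by
      rw [KaehlerDifferential.span_range_derivation]; exact Submodule.mem_top
    induction hsp using Submodule.span_induction with
    | mem v hv =>
      obtain ⟨c, rfl⟩ := hv
      obtain ⟨t, ht⟩ := (Conormal92.Affine.exists_idealSect_iff hV' _).2 (hK c)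
      refine ⟨conormalSect i' V' t, ?_⟩
      refine (hφ V' t).trans ?_
      rw [ht, map_sub, Kaehler.Basic.der_app_app d, sub_zero, hmu]
      exact congrArg _ ((LinearEquiv.symm_apply_eq E').2 (hE' c).symm).symm
    | zero => exact ⟨0, by simp⟩
    | add v w _ _ hv hw =>
      obtain ⟨x, hx⟩ := hv
      obtain ⟨y, hy⟩ := hw
      exact ⟨x + y, by rw [map_add, hx, hy]; dsimp only; rw [map_add, TensorProduct.tmul_add, map_add]⟩
    | smul c v _ hv =>
      obtain ⟨x, hx⟩ := hv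
      refine ⟨algebraMap Γ(Z', V') Γ(Z, W) c • x, ?_⟩
      rw [Scheme.Modules.Hom.app_smul, hx]
      dsimp only
      rw [map_smul E'.symm, TensorProduct.tmul_smul, ← map_smul hb.equiv, algebraMap_smul]
  · choose pre hpre using (Conormal92.Affine.conormalSect_spec hch').1
    let rF : Γ(Omega.conormal i', W) → _ := fun y => ps (conormalSect (i' ≫ k) V (sd (pre y)))
    have hrF : ∀ t, rF (conormalSect i' V' t) = ps (conormalSect (i' ≫ k) V (sd t)) := fun t => by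
      simp only [rF, hcl' _ _ (hpre (conormalSect i' V' t))]
    refine ⟨{ toFun := rF, map_add' := fun y y' => ?_, map_smul' := fun c y => ?_ }, fun x => ?_⟩
    · obtain ⟨t, rfl⟩ := (Conormal92.Affine.conormalSect_spec hch').1 y
      obtain ⟨t', rfl⟩ := (Conormal92.Affine.conormalSect_spec hch').1 y'
      refine Eq.trans ?_ (congrArg₂ (· + ·) (hrF t) (hrF t')).symm
      rw [← map_add]
      erw [hrF]
      refine (congrArg _ ?_).trans (map_add ps _ _)
      refine (congrArg _ ?_).trans (map_add (conormalSect (i' ≫ k) V).hom _ _)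
      apply Kaehler.Conormal.idealSect_injective
      rw [hsd, map_add, map_add, map_add, hsd, hsd]
    · obtain ⟨c, rfl⟩ := hch'.surj c
      obtain ⟨t, rfl⟩ := (Conormal92.Affine.conormalSect_spec hch').1 y
      rw [RingHom.id_apply]
      erw [← Kaehler.Conormal.conormalSect_smul, hrF, hrF]
      rw [
        show sd (c • t) = s c • sd t from Kaehler.Conormal.idealSect_injective _ V (by
          rw [hsd, Kaehler.Conormal.idealSect_smul, Kaehler.Conormal.idealSect_smul, map_mul, hsd]),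
        Kaehler.Conormal.conormalSect_smul, hsq0, hps, hps]
      exact Scheme.Modules.Hom.app_smul _ _ _
    · obtain ⟨y, rfl⟩ := hpsb.2 x
      obtain ⟨t, rfl⟩ := (Conormal92.Affine.conormalSect_spec hch'').1 y
      show rF (ψ.app W (ps _)) = _
      rw [hψcl, hrF, hlift]

end Groth.Agent.Lib.UnivThickAff.SmoothSplit
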