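import Groth.Agent.Lib.UnivThickAff.Retract
import Groth.Agent.Lib.Conormal92.MapApp
import Groth.Agent.Lib.QCohChart.Basic
import Groth.Agent.Lib.Kaehler.Seq
import Groth.Agent.Lib.Lim.Thickening

/-!
# Transitivity of the conormal sheaves of formally unramified morphisms
-/

set_option autoImplicit false

universe u

open CategoryTheory CategoryTheory.Limits AlgebraicGeometry TopologicalSpace Opposite OmegaSh
open Groth.Agent.Lib

namespace Groth.Agent.Lib.UnivThickAff.Transitivity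

/-- The preimage of an affine open in a first order thickening. -/
theorem isAffineOpen_of_preimage {Z Z' : Scheme.{u}} {i : Z ⟶ Z'}
    (hi : MoreMor.IsFirstOrderThickening i) {V : Z'.Opens} (hV : IsAffineOpen (i ⁻¹ᵁ V)) :
    IsAffineOpen V := by
  haveI : IsClosedImmersion i := hi.1.1
  haveI : Surjective i := hi.1.2
  haveI : IsClosedImmersion (i ∣_ V) := IsZariskiLocalAtTarget.restrict ‹_› _
  haveI : Surjective (i ∣_ V) := IsZariskiLocalAtTarget.restrict ‹_› _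
  haveI : IsAffine (i ⁻¹ᵁ V).toScheme := hV
  exact Lim.Thickening.isAffine_of_surjective (i ∣_ V)

/-- Ring homs out of the source of a surjection are determined after composing with it. -/
theorem eq_of_surj {A B C : CommRingCat.{u}} {q : A ⟶ B} (hq : Function.Surjective q.hom)
    {f g : B ⟶ C} (h : q ≫ f = q ≫ g) : f = g := by
  ext b
  obtain ⟨a, rfl⟩ := hq b
  exact congr($h a)

variable {Z Y X Z' Y' Z'' : Scheme.{u}} {i : Z ⟶ Y} {b : Y ⟶ X}
  {c : Z' ⟶ X} {j : Y ⟶ Y'} {d : Y' ⟶ X} {m : Z' ⟶ Y'} {i'' : Z ⟶ Z''} {e : Z'' ⟶ Y}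
  {n : Z'' ⟶ Z'}

/-- The two ways from the thickening over `Y` to the thickening of `Y` agree. -/
theorem comp_eq (hY' : IsUnivThickening b j d)
    (hm₁ : (i'' ≫ n) ≫ m = i ≫ j) (hm₂ : m ≫ d = c) (hZ'' : IsUnivThickening i i'' e)
    (hn₂ : n ≫ c = e ≫ b) : n ≫ m = e ≫ j := by
  obtain ⟨a', -, ha'⟩ := hY'.2.2 _ _ i'' (e ≫ b) i hZ''.1 (by rw [← Category.assoc, hZ''.2.1])
  refine (ha' _ ⟨by rw [← Category.assoc, hm₁], ?_⟩).trans (ha' _ ⟨?_, ?_⟩).symm
  · rw [Category.assoc, hm₂, hn₂]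
  · rw [← Category.assoc, hZ''.2.1]
  · rw [Category.assoc, hY'.2.1]

/-- On affine charts, the thickening over `Y` is the quotient of the thickening of `Z` by the
ideal of `Y`. -/
theorem chart_exact (hZ' : IsUnivThickening (i ≫ b) (i'' ≫ n) c) (hY' : IsUnivThickening b j d)
    (hm₁ : (i'' ≫ n) ≫ m = i ≫ j) (hm₂ : m ≫ d = c) (hZ'' : IsUnivThickening i i'' e)
    (hn₂ : n ≫ c = e ≫ b) {U : X.Opens} (hU : IsAffineOpen U) {VY : Y'.Opens}
    (hVY : IsAffineOpen VY) (eY : VY ≤ d ⁻¹ᵁ U) {V' : Z'.Opens} (hV' : IsAffineOpen V')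
    (eV : V' ≤ m ⁻¹ᵁ VY) :
    Function.Surjective (n.app V').hom ∧
      RingHom.ker (n.app V').hom = (RingHom.ker (j.app VY).hom).map (m.appLE VY V' eV).hom := by
  haveI : IsClosedImmersion (i'' ≫ n) := hZ'.1.1.1
  haveI : IsClosedImmersion j := hY'.1.1.1
  haveI : IsClosedImmersion i'' := hZ''.1.1.1
  have hnm := comp_eq hY' hm₁ hm₂ hZ'' hn₂
  let V'' := n ⁻¹ᵁ V'
  let W := i'' ⁻¹ᵁ V''
  have hW : IsAffineOpen W := hV'.preimage (i'' ≫ n)
  have hV'' : IsAffineOpen V'' := isAffineOpen_of_preimage hZ''.1 hW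
  let WY := j ⁻¹ᵁ VY
  have hWY : IsAffineOpen WY := hVY.preimage j
  have ee : V'' ≤ e ⁻¹ᵁ WY := by
    show n ⁻¹ᵁ V' ≤ (e ≫ j) ⁻¹ᵁ VY
    rw [← hnm]
    exact n.preimage_mono eV
  have ec : V' ≤ c ⁻¹ᵁ U := by
    rw [← hm₂]
    exact eV.trans (m.preimage_mono eY)
  let qY := j.app VY
  have hqY : Function.Surjective qY.hom := j.app_surjective VY hVY
  let q' := (i'' ≫ n).appLE V' W le_rfl
  have hq' : q' = (i'' ≫ n).app V' := (Scheme.Hom.app_eq_appLE _).symm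
  have hq's : Function.Surjective q'.hom := hq' ▸ (i'' ≫ n).app_surjective V' hV'
  let q'' := i''.appLE V'' W le_rfl
  have hq'' : q'' = i''.app V'' := (Scheme.Hom.app_eq_appLE _).symm
  let mh := m.appLE VY V' eV
  let eh := e.appLE WY V'' ee
  have hsq : qY ≫ eh = mh ≫ n.app V' := by
    rw [show qY = j.appLE VY WY le_rfl from Scheme.Hom.app_eq_appLE _,
      Scheme.Hom.app_eq_appLE n]
    simp only [mh, eh, Scheme.Hom.appLE_comp_appLE, hnm]
    rfl
  let N : Ideal Γ(Z', V') := (RingHom.ker qY.hom).map mh.hom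
  have hqYW : mh ≫ q' = qY ≫ eh ≫ q'' := by
    rw [show qY = j.appLE VY WY le_rfl from Scheme.Hom.app_eq_appLE _]
    simp only [mh, eh, q', q'', Scheme.Hom.appLE_comp_appLE, hm₁, Category.assoc]
    congr 1
    rw [← Category.assoc, hZ''.2.1]
  have hN : N ≤ RingHom.ker q'.hom := Ideal.map_le_iff_le_comap.2 fun y hy => by
    show (mh ≫ q') y = 0
    rw [hqYW]
    show q'' (eh (qY y)) = 0
    rw [show qY y = 0 from hy, map_zero, map_zero]
  let Cq := CommRingCat.of (Γ(Z', V') ⧸ N)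
  let mk : Γ(Z', V') ⟶ Cq := CommRingCat.ofHom (Ideal.Quotient.mk N)
  have hmk : Function.Surjective mk.hom := Ideal.Quotient.mk_surjective
  let qb : Cq ⟶ Γ(Z, W) := CommRingCat.ofHom (Ideal.Quotient.lift N q'.hom hN)
  have hmkq : mk ≫ qb = q' := rfl
  have hqb : Function.Surjective qb.hom := fun y => by
    obtain ⟨x, rfl⟩ := hq's y
    exact ⟨mk x, rfl⟩
  have hkb : ∀ x y, qb.hom x = 0 → qb.hom y = 0 → x * y = 0 := fun x y hx hy => by
    obtain ⟨x, rfl⟩ := hmk x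
    obtain ⟨y, rfl⟩ := hmk y
    have h0 := Retract.eq_zero_of_mul hZ' hV'
    rw [← hq', pow_two] at h0
    have : x * y ∈ (⊥ : Ideal Γ(Z', V')) := h0 ▸ Ideal.mul_mem_mul (show x ∈ RingHom.ker q'.hom from hx) hy
    rw [← map_mul, Ideal.mem_bot.1 this, map_zero]
  have hkill : ∀ y ∈ RingHom.ker qY.hom, mk (mh y) = 0 := fun y hy =>
    Ideal.Quotient.eq_zero_iff_mem.2 (Ideal.mem_map_of_mem _ hy)
  let χ : Γ(Y, WY) ⟶ Cq := CommRingCat.ofHom (RingHom.liftOfSurjective qY.hom hqY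
    ⟨(mh ≫ mk).hom, hkill⟩)
  have hχ : qY ≫ χ = mh ≫ mk := by
    ext y
    exact RingHom.liftOfRightInverse_comp_apply qY.hom _ (Function.rightInverse_surjInv hqY)
      ⟨(mh ≫ mk).hom, hkill⟩ y
  obtain ⟨ψ, hψ₁, hψ₂⟩ := Retract.exists_chart_hom hZ'' hWY hV'' ee hW le_rfl qb hqb hkb χ
    (eq_of_surj hqY (by rw [← Category.assoc, hχ, Category.assoc, hmkq]; exact hqYW))
  have hnψ : n.app V' ≫ ψ = mk := by
    refine chart_hom_unique hZ' hU hV' ec hW le_rfl qb hqb hkb _ _ ?_ hmkq ?_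
    · rw [Category.assoc, hψ₁, Scheme.Hom.app_eq_appLE n, Scheme.Hom.appLE_comp_appLE]
    · have h1 : c.appLE U V' ec ≫ n.app V' = (d.appLE U VY eY ≫ qY) ≫ eh := by
        rw [show qY = j.appLE VY WY le_rfl from Scheme.Hom.app_eq_appLE _,
          Scheme.Hom.app_eq_appLE n]
        simp only [eh, Scheme.Hom.appLE_comp_appLE, hn₂, Category.assoc, hY'.2.1]
        rfl
      rw [← Category.assoc, h1, Category.assoc, hψ₂, Category.assoc, hχ, ← Category.assoc]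
      simp only [mh, Scheme.Hom.appLE_comp_appLE, hm₂]
  have hNn : ∀ x ∈ N, (n.app V').hom x = 0 := fun x hx => by
    have : N ≤ RingHom.ker (n.app V').hom := Ideal.map_le_iff_le_comap.2 fun y hy => by
      show (mh ≫ n.app V') y = 0
      rw [← hsq]
      show eh (qY y) = 0
      rw [show qY y = 0 from hy, map_zero]
    exact this hx
  let nb : Cq ⟶ Γ(Z'', V'') := CommRingCat.ofHom (Ideal.Quotient.lift N (n.app V').hom hNn)
  have hmkn : mk ≫ nb = n.app V' := rfl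
  have hk'' : ∀ x y, q''.hom x = 0 → q''.hom y = 0 → x * y = 0 := fun x y hx hy => by
    have h0 := Retract.eq_zero_of_mul hZ'' hV''
    rw [← hq'', pow_two] at h0
    exact Ideal.mem_bot.1 (h0 ▸ Ideal.mul_mem_mul (show x ∈ RingHom.ker q''.hom from hx) hy)
  have hψn : ψ ≫ nb = 𝟙 _ := by
    refine chart_hom_unique hZ'' hWY hV'' ee hW le_rfl q'' (hq'' ▸ i''.app_surjective V'' hV'')
      hk'' _ _ ?_ (Category.id_comp _) ?_
    · have h2 : nb ≫ q'' = qb := eq_of_surj hmk (by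
        rw [← Category.assoc, hmkn, hmkq, Scheme.Hom.app_eq_appLE n]
        exact Scheme.Hom.appLE_comp_appLE i'' n V' _ W le_rfl le_rfl)
      rw [Category.assoc, h2, hψ₁]
    · rw [Category.comp_id, ← Category.assoc, hψ₂]
      exact eq_of_surj hqY (by rw [← Category.assoc, hχ, Category.assoc, hmkn, hsq])
  refine ⟨fun y => ?_, le_antisymm (fun x hx => ?_) hNn⟩
  · obtain ⟨x, hx⟩ := hmk (ψ y)
    refine ⟨x, ?_⟩
    show nb (mk x) = y
    rw [show mk x = ψ y from hx]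
    exact congr($hψn y)
  · refine Ideal.Quotient.eq_zero_iff_mem.1 ?_
    show mk x = 0
    rw [← hnψ]
    show ψ (n.app V' x) = 0
    rw [show n.app V' x = 0 from hx, map_zero]

/-- Around each point there is a triple of compatible charts. -/
theorem exists_charts (hY' : IsUnivThickening b j d) (hm₁ : (i'' ≫ n) ≫ m = i ≫ j) (z : Z) :
    ∃ (U : X.Opens) (_ : IsAffineOpen U) (VY : Y'.Opens) (_ : IsAffineOpen VY)
      (_ : VY ≤ d ⁻¹ᵁ U) (V' : Z'.Opens),
      IsAffineOpen V' ∧ V' ≤ m ⁻¹ᵁ VY ∧ z ∈ (i'' ≫ n) ⁻¹ᵁ V' := by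
  obtain ⟨U, hU, hxU, -⟩ := exists_isAffineOpen_mem_and_subset (U := ⊤) (x := d (j (i z))) trivial
  obtain ⟨VY, hVY, hyV, hVYU⟩ := exists_isAffineOpen_mem_and_subset (U := d ⁻¹ᵁ U) (x := j (i z)) hxU
  have hz : (i'' ≫ n) z ∈ m ⁻¹ᵁ VY := by
    show ((i'' ≫ n) ≫ m) z ∈ VY
    rw [hm₁]
    exact hyV
  obtain ⟨V', hV', hzV', hV'Y⟩ := exists_isAffineOpen_mem_and_subset hz
  exact ⟨U, hU, VY, hVY, fun x hx => hVYU hx, V', hV', fun x hx => hV'Y hx, hzV'⟩

variable {ψ₁ : (Scheme.Modules.pullback i).obj (Omega.conormal j) ⟶ Omega.conormal (i'' ≫ n)}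
  {ψ₂ : (Scheme.Modules.pullback (𝟙 Z)).obj (Omega.conormal (i'' ≫ n)) ⟶ Omega.conormal i''}

/-- The second map, with the identity pullback removed. -/
noncomputable abbrev bar
    (ψ₂ : (Scheme.Modules.pullback (𝟙 Z)).obj (Omega.conormal (i'' ≫ n)) ⟶ Omega.conormal i'') :
    Omega.conormal (i'' ≫ n) ⟶ Omega.conormal i'' :=
  (Scheme.Modules.pullbackId Z).inv.app (Omega.conormal (i'' ≫ n)) ≫ ψ₂

theorem bar_app [QuasiCompact i''] (hψ₂ : IsConormalMap i'' (i'' ≫ n) n (𝟙 Z) ψ₂) (V' : Z'.Opens)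
    (k : Γ(ClSub.idealMod (i'' ≫ n).ker, V')) :
    (bar ψ₂).app ((i'' ≫ n) ⁻¹ᵁ V') (conormalSect (i'' ≫ n) V' k) =
      Kaehler.Conormal.mapSect hψ₂.1 V' k := by
  change ψ₂.app _ (((Scheme.Modules.pullbackId Z).inv.app (Omega.conormal (i'' ≫ n))).app _
    (conormalSect (i'' ≫ n) V' k)) = _
  rw [Kaehler.Seq.pullbackId_inv_app]
  exact Kaehler.Conormal.app_eq hψ₂ V' k

theorem comp_bar_eq_zero [QuasiCompact i''] [QuasiCompact (i'' ≫ n)] (hnm : n ≫ m = e ≫ j)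
    (hψ₁ : IsConormalMap (i'' ≫ n) j m i ψ₁) (hψ₂ : IsConormalMap i'' (i'' ≫ n) n (𝟙 Z) ψ₂) :
    ψ₁ ≫ bar ψ₂ = 0 := by
  refine Kaehler.Conormal.pullback_conormal_hom_ext j i fun U k => ?_
  change (bar ψ₂).app _ (ψ₁.app _ _) = 0
  rw [Kaehler.Conormal.app_eq hψ₁, Kaehler.Conormal.mapSect]
  refine (congr($((bar ψ₂).mapPresheaf.naturality
    (homOfLE (Kaehler.Conormal.le_of_sq hψ₁.1 U)).op) _)).trans ?_
  change (Omega.conormal i'').presheaf.map _ ((bar ψ₂).app _ _) = 0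
  erw [bar_app hψ₂]
  have h : Kaehler.Conormal.liftSect hψ₂.1 (m ⁻¹ᵁ U) (Kaehler.Conormal.liftSect hψ₁.1 U k) = 0 := by
    apply Kaehler.Conormal.idealSect_injective
    rw [map_zero, Kaehler.Conormal.idealSect_liftSect, Kaehler.Conormal.idealSect_liftSect]
    show (m.app U ≫ n.app (m ⁻¹ᵁ U)) _ = 0
    rw [← Scheme.Hom.comp_app, Scheme.Hom.congr_app hnm U, Scheme.Hom.comp_app]
    show Z''.presheaf.map _ (e.app _ (j.app U _)) = 0
    rw [Kaehler.Descend.app_idealSect, map_zero, map_zero]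
  rw [Kaehler.Conormal.mapSect, h, map_zero, map_zero]
  exact map_zero _

/-- Right exactness. -/
theorem exact_and_epi (hZ' : IsUnivThickening (i ≫ b) (i'' ≫ n) c) (hY' : IsUnivThickening b j d)
    (hm₁ : (i'' ≫ n) ≫ m = i ≫ j) (hm₂ : m ≫ d = c) (hZ'' : IsUnivThickening i i'' e)
    (hn₂ : n ≫ c = e ≫ b) (hψ₁ : IsConormalMap (i'' ≫ n) j m i ψ₁)
    (hψ₂ : IsConormalMap i'' (i'' ≫ n) n (𝟙 Z) ψ₂) (w : ψ₁ ≫ bar ψ₂ = 0) :
    (ShortComplex.mk ψ₁ (bar ψ₂) w).Exact ∧ Epi (bar ψ₂) := by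
  haveI : IsClosedImmersion (i'' ≫ n) := hZ'.1.1.1
  haveI : IsClosedImmersion j := hY'.1.1.1
  haveI : IsClosedImmersion i'' := hZ''.1.1.1
  haveI := Conormal92.Affine.isQCoh_conormal (i'' ≫ n)
  haveI := Conormal92.Affine.isQCoh_conormal i''
  have key : ∀ z : Z, ∃ W : Z.Opens, IsAffineOpen W ∧ z ∈ W ∧
      (∀ t : Γ(Omega.conormal (i'' ≫ n), W), (bar ψ₂).app W t = 0 →
        ∃ w, ψ₁.app W w = t) ∧ Function.Surjective ((bar ψ₂).app W) := by
    intro z
    obtain ⟨U, hU, VY, hVY, eY, V', hV', eV, hzV'⟩ := exists_charts (b := b) (d := d) hY' hm₁ z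
    obtain ⟨hns, hnk⟩ := chart_exact hZ' hY' hm₁ hm₂ hZ'' hn₂ hU hVY eY hV' eV
    have hV'' : IsAffineOpen (n ⁻¹ᵁ V') :=
      isAffineOpen_of_preimage hZ''.1 (hV'.preimage (i'' ≫ n))
    have hch := Conormal92.Affine.isChart_of_closed (i'' ≫ n) hV'
    have hch'' := Conormal92.Affine.isChart_of_closed i'' hV''
    have eW : (i'' ≫ n) ⁻¹ᵁ V' ≤ i ⁻¹ᵁ (j ⁻¹ᵁ VY) := by
      show _ ≤ (i ≫ j) ⁻¹ᵁ VY
      rw [← hm₁]
      exact (i'' ≫ n).preimage_mono eV
    have hbar : ∀ k, (bar ψ₂).app ((i'' ≫ n) ⁻¹ᵁ V') (conormalSect (i'' ≫ n) V' k) =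
        conormalSect i'' (n ⁻¹ᵁ V') (Kaehler.Conormal.liftSect hψ₂.1 V' k) := fun k =>
      (bar_app hψ₂ V' k).trans (congr($((Omega.conormal i'').presheaf.map_id _) _))
    refine ⟨(i'' ≫ n) ⁻¹ᵁ V', hV'.preimage _, hzV', fun t ht => ?_, fun t => ?_⟩
    · obtain ⟨k, rfl⟩ := (Conormal92.Affine.conormalSect_spec hch).1 t
      rw [hbar] at ht
      erw [(Conormal92.Affine.conormalSect_spec hch'').2, Retract.eq_zero_of_mul hZ'' hV'',
        Kaehler.Conormal.idealSect_liftSect] at ht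
      have hk : idealSect (i'' ≫ n).ker V' k ∈
          (RingHom.ker (j.app VY).hom).map (m.appLE VY V' eV).hom := hnk ▸ ht
      suffices ∀ x ∈ (RingHom.ker (j.app VY).hom).map (m.appLE VY V' eV).hom,
          ∃ k₀ w, idealSect (i'' ≫ n).ker V' k₀ = x ∧
            ψ₁.app ((i'' ≫ n) ⁻¹ᵁ V') w = conormalSect (i'' ≫ n) V' k₀ by
        obtain ⟨k₀, w, hk₀, hw⟩ := this _ hk
        exact ⟨w, hw.trans (by rw [Kaehler.Conormal.idealSect_injective _ V' hk₀])⟩
      intro x hx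
      rw [Ideal.map] at hx
      induction hx using Submodule.span_induction with
      | mem x hx =>
        obtain ⟨y, hy, rfl⟩ := hx
        obtain ⟨ky, rfl⟩ := (Conormal92.Affine.exists_idealSect_iff hVY y).2 hy
        have hmem : m.appLE VY V' eV (idealSect j.ker VY ky) ∈
            RingHom.ker ((i'' ≫ n).app V').hom := by
          have h1 : (m.appLE VY V' eV).hom (idealSect j.ker VY ky) ∈ RingHom.ker (n.app V').hom :=
            hnk ▸ Ideal.mem_map_of_mem _ hy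
          show i''.app _ (n.app V' _) = 0
          rw [show n.app V' _ = 0 from h1, map_zero]
        obtain ⟨k₀, hk₀⟩ := (Conormal92.Affine.exists_idealSect_iff hV' _).2 hmem
        exact ⟨k₀, _, hk₀, Conormal92.MapApp.app_mu hψ₁ eV eW ky k₀ hk₀⟩
      | zero => exact ⟨0, 0, map_zero _, by rw [map_zero, map_zero]⟩
      | add x y _ _ hx hy =>
        obtain ⟨kx, wx, rfl, hwx⟩ := hx
        obtain ⟨ky, wy, rfl, hwy⟩ := hy
        exact ⟨kx + ky, wx + wy, map_add _ _ _, by rw [map_add, map_add, hwx, hwy]⟩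
      | smul r x _ hx =>
        obtain ⟨kx, wx, rfl, hwx⟩ := hx
        refine ⟨r • kx, (i'' ≫ n).app V' r • wx, Kaehler.Conormal.idealSect_smul _ V' r kx, ?_⟩
        rw [Scheme.Modules.Hom.app_smul, hwx, Kaehler.Conormal.conormalSect_smul]
    · obtain ⟨k, rfl⟩ := (Conormal92.Affine.conormalSect_spec hch'').1 t
      obtain ⟨x, hx⟩ := hns (idealSect i''.ker (n ⁻¹ᵁ V') k)
      obtain ⟨k', hk'⟩ := (Conormal92.Affine.exists_idealSect_iff (i := i'' ≫ n) hV' x).2 (by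
        show i''.app _ (n.app V' x) = 0
        rw [show n.app V' x = _ from hx, Kaehler.Descend.app_idealSect])
      refine ⟨conormalSect (i'' ≫ n) V' k', (hbar k').trans ?_⟩
      congr 1
      apply Kaehler.Conormal.idealSect_injective
      rw [Kaehler.Conormal.idealSect_liftSect, hk']
      exact hx
  refine ⟨QCohChart.Basic.exact_of_charts _ fun z => ?_, QCohChart.Basic.epi_of_charts _ fun z => ?_⟩
  · obtain ⟨W, h1, h2, h3, -⟩ := key z
    exact ⟨W, h1, h2, h3⟩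
  · obtain ⟨W, h1, h2, -, h4⟩ := key z
    exact ⟨W, h1, h2, h4⟩

/-- The same sequence with the identity pullback inserted. -/
noncomputable def isoBar (w : ψ₁ ≫ bar ψ₂ = 0)
    (w' : (Scheme.Modules.pullback (𝟙 Z)).map ψ₁ ≫ ψ₂ = 0) :
    ShortComplex.mk ψ₁ (bar ψ₂) w ≅ ShortComplex.mk _ _ w' :=
  ShortComplex.isoMk ((Scheme.Modules.pullbackId Z).symm.app _)
    ((Scheme.Modules.pullbackId Z).symm.app _) (Iso.refl _)
    ((Scheme.Modules.pullbackId Z).inv.naturality ψ₁).symm (Category.comp_id _).symm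

theorem map_comp_eq_zero (w : ψ₁ ≫ bar ψ₂ = 0) :
    (Scheme.Modules.pullback (𝟙 Z)).map ψ₁ ≫ ψ₂ = 0 := by
  have h := (Scheme.Modules.pullbackId Z).inv.naturality ψ₁
  rw [← cancel_epi ((Scheme.Modules.pullbackId Z).inv.app _), comp_zero, ← Category.assoc]
  erw [← h]
  rw [Category.assoc]
  exact w

end Groth.Agent.Lib.UnivThickAff.Transitivity
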